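import Cfsg.Agent.Lib.RelMcKay.Param
import Cfsg.Agent.Lib.SectRank.Basic

/-!
# Fixed points, irreducible abelian actions and transport of invariance
-/

set_option autoImplicit false
set_option maxHeartbeats 1000000

namespace Cfsg.Agent.Lib.RelMcKay

open Cfsg
open Cfsg.Agent.Lib
open Cfsg.Agent.Lib.Glauberman (IsInv IsConjBy resSub Normalises charMult isCharacter_resSub)

variable {G : Type*} [Group G] [Finite G] {p : ℕ} [Fact p.Prime]
  {L K C Q R S T X Y : Subgroup G}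

theorem normalises_self {g : G} {H : Subgroup G} (hg : g ∈ H) : Normalises g H :=
  Glauberman.normalises_of_mem fun x hx => H.mul_mem (H.mul_mem hg hx) (H.inv_mem hg)

theorem normBy_self (H : Subgroup G) : NormBy H H := fun _ hg => normalises_self hg

omit [Finite G] in
theorem NormBy.le_normalizer (h : NormBy X Y) : X ≤ Subgroup.normalizer (Y : Set G) :=
  fun g hg => Subgroup.mem_normalizer_iff.2 (h g hg)

theorem normalises_sup {g : G} {A B : Subgroup G} (hA : Normalises g A) (hB : Normalises g B) :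
    Normalises g (A ⊔ B) := by
  refine Glauberman.normalises_of_mem fun x hx => ?_
  have hle : A ⊔ B ≤ (A ⊔ B).comap (MulAut.conj g).toMonoidHom :=
    sup_le (fun a ha => Subgroup.mem_sup_left ((hA a).1 ha))
      (fun b hb => Subgroup.mem_sup_right ((hB b).1 hb))
  exact hle hx

theorem NormBy.sup (hA : NormBy X K) (hB : NormBy X L) : NormBy X (K ⊔ L) :=
  fun g hg => normalises_sup (hA g hg) (hB g hg)

theorem NormBy.sup_left (hX : NormBy X K) (hY : NormBy Y K) : NormBy (X ⊔ Y) K := by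
  intro g hg
  have : X ⊔ Y ≤ Glauberman.normGroup K := sup_le hX hY
  exact this hg

omit [Finite G] in
theorem mem_sup_decomp (hn : NormBy X Y) {g : G} (hg : g ∈ X ⊔ Y) :
    ∃ a ∈ X, ∃ b ∈ Y, g = a * b := by
  rw [← SetLike.mem_coe,
    Subgroup.coe_mul_of_left_le_normalizer_right _ _ hn.le_normalizer] at hg
  obtain ⟨a, ha, b, hb, e⟩ := hg
  exact ⟨a, ha, b, hb, e.symm⟩

theorem relIndex_sup_dvd (hn : NormBy X Y) (hL : L ≤ Y) : Y.relIndex (X ⊔ Y) ∣ L.relIndex X := by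
  haveI := hn.normal
  haveI := (hn.sup_left (normBy_self Y)).normal
  have e : Y.relIndex (X ⊔ Y) = Y.relIndex X := Nat.card_congr
    (QuotientGroup.quotientInfEquivProdNormalizerQuotient X Y hn.le_normalizer).toEquiv.symm
  rw [e]
  exact Subgroup.relIndex_dvd_of_le_left X hL

theorem not_dvd_of_sup {p : ℕ} (hp : p.Prime) (hn : NormBy R X) (hL : L ≤ X)
    (hLX : ¬ p ∣ L.relIndex X) (hR : ¬ p ∣ Nat.card R) : ¬ p ∣ L.relIndex (X ⊔ R) := by
  rw [← Subgroup.relIndex_mul_relIndex L X (X ⊔ R) hL le_sup_left, hp.dvd_mul, not_or]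
  refine ⟨hLX, fun h => hR ?_⟩
  have h1 := relIndex_sup_dvd hn (bot_le (a := X))
  rw [sup_comm, Subgroup.relIndex_bot_left] at h1
  exact h.trans h1

theorem mem_of_pPower (hn : NormBy X K) {a : ℕ} (hidx : K.relIndex X = p ^ a) {r : G}
    (hr : r ∈ X) (hord : ¬ p ∣ orderOf r) : r ∈ K := by
  haveI := hn.normal
  have h1 : r ^ p ^ a ∈ K := by
    have := Subgroup.pow_index_mem (K.subgroupOf X) (⟨r, hr⟩ : X)
    rwa [show (K.subgroupOf X).index = p ^ a from hidx, Subgroup.mem_subgroupOf] at this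
  obtain ⟨c, hc⟩ := exists_pow_eq_self_of_coprime (x := r) (n := p ^ a)
    (Nat.Coprime.pow_left a ((Fact.out : p.Prime).coprime_iff_not_dvd.2 hord))
  rw [← hc]
  exact K.pow_mem h1 c

theorem inf_sup_le_of_pPower (hS : IsPGroup p S) (hR : ¬ p ∣ Nat.card R) (hRX : NormBy R X)
    (hSX : NormBy S X) : (X ⊔ R) ⊓ (X ⊔ S) ≤ X := by
  rintro y ⟨hy, hy'⟩
  rw [SetLike.mem_coe, sup_comm] at hy
  obtain ⟨r, hr, x, hx, rfl⟩ := mem_sup_decomp hRX hy
  obtain ⟨a, ha⟩ := relIndex_sup_pow hS hSX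
  refine X.mul_mem (mem_of_pPower (normBy_sup hSX) ha ?_ fun h => hR ?_) hx
  · simpa using (X ⊔ S).mul_mem hy' (Subgroup.mem_sup_left (X.inv_mem hx))
  · exact h.trans (Subgroup.orderOf_dvd_natCard R hr)

theorem inf_sup_le (hSK : S ⊓ K ≤ L) (hLK : L ≤ K) (hSL : NormBy S L) : K ⊓ (L ⊔ S) ≤ L := by
  rintro y ⟨hy, hy'⟩
  rw [SetLike.mem_coe, sup_comm] at hy'
  obtain ⟨s, hs, l, hl, rfl⟩ := mem_sup_decomp hSL hy'
  have : s ∈ K := by simpa using K.mul_mem hy (K.inv_mem (hLK hl))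
  exact L.mul_mem (hSK ⟨hs, this⟩) hl

theorem sup_comm_mem (hn : NormBy R X) (hX : ∀ r ∈ R, ∀ r' ∈ R, r * r' * r⁻¹ * r'⁻¹ ∈ X) :
    ∀ a ∈ X ⊔ R, ∀ b ∈ X ⊔ R, a * b * a⁻¹ * b⁻¹ ∈ X := by
  intro a ha b hb
  have hnn : NormBy (X ⊔ R) X := (normBy_self X).sup_left hn
  haveI := hnn.normal
  let q := QuotientGroup.mk' (X.subgroupOf (X ⊔ R))
  have key : ∀ y (hy : y ∈ X ⊔ R), ∃ r : R, q ⟨y, hy⟩ = q ⟨r, Subgroup.mem_sup_right r.2⟩ := by
    intro y hy
    have hy' : y ∈ R ⊔ X := by rwa [sup_comm]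
    obtain ⟨r, hr, x, hx, rfl⟩ := mem_sup_decomp hn hy'
    refine ⟨⟨r, hr⟩, (QuotientGroup.eq.2 ?_).symm⟩
    simpa [Subgroup.mem_subgroupOf] using hx
  obtain ⟨r, hr⟩ := key a ha
  obtain ⟨r', hr'⟩ := key b hb
  have h1 : q (⟨a, ha⟩ * ⟨b, hb⟩ * (⟨a, ha⟩ : (X ⊔ R : Subgroup G))⁻¹ *
      (⟨b, hb⟩ : (X ⊔ R : Subgroup G))⁻¹) = q (⟨r, Subgroup.mem_sup_right r.2⟩ *
      ⟨r', Subgroup.mem_sup_right r'.2⟩ * (⟨r, Subgroup.mem_sup_right r.2⟩ : (X ⊔ R : Subgroup G))⁻¹ *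
      (⟨r', Subgroup.mem_sup_right r'.2⟩ : (X ⊔ R : Subgroup G))⁻¹) := by
    simp only [map_mul, map_inv, hr, hr']
  rw [show q (⟨r, Subgroup.mem_sup_right r.2⟩ *
      ⟨r', Subgroup.mem_sup_right r'.2⟩ * (⟨r, Subgroup.mem_sup_right r.2⟩ : (X ⊔ R : Subgroup G))⁻¹ *
      (⟨r', Subgroup.mem_sup_right r'.2⟩ : (X ⊔ R : Subgroup G))⁻¹) = 1 from
    (QuotientGroup.eq_one_iff _).2 (hX r r.2 r' r'.2)] at h1
  exact Subgroup.mem_subgroupOf.1 ((QuotientGroup.eq_one_iff _).1 h1)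

/-- Conjugates of fixing elements fix the conjugate. -/
theorem Fixes.conj {g s : G} {θ θ' : IrrCharacter K} (hg : Normalises g K)
    (e : IsConjBy g (θ : K → ℂ) (θ' : K → ℂ)) (h : Fixes s θ) : Fixes (g * s * g⁻¹) θ' := by
  have hn : Normalises (g * s * g⁻¹) K := (hg.mul h.1).mul hg.inv
  have einv : IsConjBy g⁻¹ (θ' : K → ℂ) (θ : K → ℂ) := fun x x' hx =>
    (e x' x (by rw [hx]; group)).symm
  refine ⟨hn, ?_⟩
  exact IsConjBy.trans hg.inv einv (IsConjBy.trans h.1 h.2 e)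

theorem isInv_of_le_stab {θ : IrrCharacter K} (h : S ≤ stabGroup θ) : IsInv S (θ : K → ℂ) :=
  fun _ hs => (h hs).2

theorem le_stab_of_isInv {θ : IrrCharacter K} (hn : NormBy S K) (h : IsInv S (θ : K → ℂ)) :
    S ≤ stabGroup θ := fun s hs => ⟨hn s hs, h s hs⟩

theorem exists_inv_conj {g : G} (hK : Normalises g K) (hSK : NormBy S K) (hgS : Normalises g S)
    (χ : SylowCorr.InvIrr S K) :
    ∃ χ' : SylowCorr.InvIrr S K, IsConjBy g (χ.1 : K → ℂ) (χ'.1 : K → ℂ) := by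
  obtain ⟨χ', hχ'⟩ := exists_conj hK χ.1
  refine ⟨⟨χ', fun s hs => ?_⟩, hχ'⟩
  obtain ⟨s0, rfl⟩ : ∃ s0, s = g * s0 * g⁻¹ := ⟨g⁻¹ * s * g, by group⟩
  exact (Fixes.conj hK hχ' ⟨hSK _ ((hgS s0).2 hs), χ.2 _ ((hgS s0).2 hs)⟩).2

/-- A correspondence commutes with the normaliser. -/
theorem cor_fixes_iff {hCK : C ≤ K} {f : SylowCorr.InvIrr S K → SylowCorr.InvIrr S C}
    (hf : SylowCorr.IsCor p S hCK f) {g : G} (hK : Normalises g K) (hC : Normalises g C)
    (hgS : Normalises g S) (hSK : NormBy S K) (hSC : NormBy S C) (χ : SylowCorr.InvIrr S K) :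
    Fixes g χ.1 ↔ Fixes g (f χ).1 := by
  obtain ⟨χ', hχ'⟩ := exists_inv_conj hK hSK hgS χ
  obtain ⟨ξ', hξ'⟩ := exists_inv_conj hC hSC hgS (f χ)
  have he : ξ' = f χ' := by
    refine eq_of_mu_ne hf ?_
    rw [SylowCorr.μ_conj hK hC hCK hχ' hξ']
    exact cor_mu_ne hf χ
  constructor
  · intro h
    have : χ' = χ := Subtype.ext (Subtype.ext (IsConjBy.eq hK hχ' h.2))
    rw [this] at he
    exact ⟨hC, he ▸ hξ'⟩
  · intro h
    have : ξ' = f χ := Subtype.ext (Subtype.ext (IsConjBy.eq hC hξ' h.2))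
    rw [this] at he
    exact ⟨hK, (hf.1.1 he).symm ▸ hχ'⟩

/-- An extension to a `p'`-quotient centralised by a `p`-group stays invariant. -/
theorem inv_of_ext (hS : IsPGroup p S) {A A' : Subgroup G} (hAA : A ≤ A') (hn : NormBy A' A)
    (hab : ∀ a ∈ A', ∀ b ∈ A', a * b * a⁻¹ * b⁻¹ ∈ A) (hidx : ¬ p ∣ A.relIndex A')
    (hSA : NormBy S A') (hcen : ∀ x ∈ S, ∀ g ∈ A', x * g * x⁻¹ * g⁻¹ ∈ A)
    {θ : IrrCharacter A} (hθ : S ≤ stabGroup θ) {η : IrrCharacter A'} (e : IsExt hAA θ η) :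
    S ≤ stabGroup η := by
  intro x hx
  refine ⟨hSA x hx, ?_⟩
  haveI := hn.normal
  obtain ⟨η', hη'⟩ := exists_conj (hSA x hx) η
  have he' : IsExt hAA θ η' := by
    funext k
    obtain ⟨k0, rfl⟩ := (Glauberman.conjEquiv (hθ hx).1).surjective k
    exact (hη' ⟨k0, hAA k0.2⟩ _ rfl).trans ((congrFun e k0).trans ((hθ hx).2 k0 _ rfl).symm)
  obtain ⟨l, hl0, hl⟩ := Glauberman.exists_lin_mul_eq hAA hab θ η η' e.over he'.over
  have step : ∀ (g g' : A'), (g' : G) = x * g * x⁻¹ →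
      (η : A' → ℂ) g' * ((l : A' →* ℂˣ) g : ℂ) = (η : A' → ℂ) g ∧
        (l : A' →* ℂˣ) g' = (l : A' →* ℂˣ) g := by
    intro g g' hgg
    have h2 : (l : A' →* ℂˣ) g' = (l : A' →* ℂˣ) g := by
      rw [← mul_inv_eq_one, ← map_inv, ← map_mul]
      refine hl0 _ ?_
      simpa [hgg] using hcen x hx g g.2
    refine ⟨?_, h2⟩
    rw [← hη' g g' hgg, ← congrFun hl g', h2]
  have iter : ∀ (n : ℕ) (g g' : A'), (g' : G) = x ^ n * g * (x ^ n)⁻¹ →
      (η : A' → ℂ) g' * ((l : A' →* ℂˣ) g : ℂ) ^ n = (η : A' → ℂ) g := by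
    intro n
    induction n with
    | zero =>
      intro g g' hgg
      rw [show g' = g from Subtype.ext (by simpa using hgg), pow_zero, mul_one]
    | succ n ih =>
      intro g g' hgg
      let g1 : A' := ⟨x * g * x⁻¹, hSA x hx g |>.1 g.2⟩
      obtain ⟨h1, h2⟩ := step g g1 rfl
      have := ih g1 g' (by rw [hgg]; simp [g1, pow_succ, mul_assoc])
      rw [h2] at this
      rw [pow_succ, ← mul_assoc, this, h1]
  obtain ⟨a, ha⟩ := hS ⟨x, hx⟩
  have hxa : x ^ p ^ a = 1 := congrArg Subtype.val ha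
  intro g g' hgg
  obtain ⟨h1, -⟩ := step g g' hgg
  by_cases h0 : (η : A' → ℂ) g = 0
  · rw [h0] at h1
    exact ((mul_eq_zero.1 h1).resolve_right (Units.ne_zero _)).trans h0.symm
  · have h3 := iter (p ^ a) g g (by simp [hxa])
    have h4 : ((l : A' →* ℂˣ) g) ^ p ^ a = 1 := Units.ext (by
      rw [Units.val_pow_eq_pow_val, Units.val_one]
      exact mul_left_cancel₀ h0 (by rw [h3, mul_one]))
    have h5 : ((l : A' →* ℂˣ) g) ^ A.relIndex A' = 1 := by
      rw [← map_pow]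
      exact hl0 _ (Subgroup.pow_index_mem (A.subgroupOf A') g)
    have h6 : (l : A' →* ℂˣ) g = 1 := orderOf_eq_one_iff.1 (Nat.eq_one_of_dvd_coprimes
      (Nat.Coprime.pow_left a ((Fact.out : p.Prime).coprime_iff_not_dvd.2 hidx))
      (orderOf_dvd_of_pow_eq_one h4) (orderOf_dvd_of_pow_eq_one h5))
    rwa [h6, Units.val_one, mul_one] at h1

/-- A maximal invariant normal subgroup and its abelian factor. -/
theorem exists_maximal_invariant (hS : IsPGroup p S) (hSS : S ⊓ L < S) (hSL : NormBy S L)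
    (hRS : NormBy R S) (hRL : NormBy R L) :
    ∃ T : Subgroup G, S ⊓ L ≤ T ∧ T < S ∧ NormBy S T ∧ NormBy R T ∧
      (∀ x ∈ S, ∀ y ∈ S, x * y * x⁻¹ * y⁻¹ ∈ T) ∧
      ∀ T' : Subgroup G, T ≤ T' → T' < S → NormBy S T' → NormBy R T' → T' = T := by
  have hinf : ∀ {Z : Subgroup G}, NormBy Z S → NormBy Z L → NormBy Z (S ⊓ L) :=
    fun hZS hZL g hg x => ⟨fun hx => ⟨(hZS g hg x).1 hx.1, (hZL g hg x).1 hx.2⟩,
      fun hx => ⟨(hZS g hg x).2 hx.1, (hZL g hg x).2 hx.2⟩⟩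
  obtain ⟨T, hT⟩ := Set.Finite.exists_maximal
    (s := {T : Subgroup G | S ⊓ L ≤ T ∧ T < S ∧ NormBy S T ∧ NormBy R T}) (Set.toFinite _)
    ⟨S ⊓ L, le_rfl, hSS, hinf (normBy_self S) hSL, hinf hRS hRL⟩
  obtain ⟨h1, h2, h3, h4⟩ := hT.1
  have hmax : ∀ T' : Subgroup G, T ≤ T' → T' < S → NormBy S T' → NormBy R T' → T' = T :=
    fun T' hle hlt hn hn' => le_antisymm (hT.2 ⟨h1.trans hle, hlt, hn, hn'⟩ hle) hle
  refine ⟨T, h1, h2, h3, h4, fun x hx y hy => ?_, hmax⟩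
  have hD : NormBy R ⁅S, S⁆ := fun r hr => Glauberman.normalises_of_mem fun z hz => by
    have hz' : (MulAut.conj r) z ∈ (⁅S, S⁆).map (MulAut.conj r).toMonoidHom := ⟨z, hz, rfl⟩
    rw [Subgroup.map_commutator] at hz'
    refine Subgroup.commutator_mono ?_ ?_ hz' <;>
    · rintro _ ⟨w, hw, rfl⟩
      exact (hRS r hr w).1 hw
  have hDS : NormBy S ⁅S, S⁆ := fun r hr => Glauberman.normalises_of_mem fun z hz => by
    have hz' : (MulAut.conj r) z ∈ (⁅S, S⁆).map (MulAut.conj r).toMonoidHom := ⟨z, hz, rfl⟩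
    rw [Subgroup.map_commutator] at hz'
    refine Subgroup.commutator_mono ?_ ?_ hz' <;>
    · rintro _ ⟨w, hw, rfl⟩
      exact S.mul_mem (S.mul_mem hr hw) (S.inv_mem hr)
  have hle : T ⊔ ⁅S, S⁆ ≤ S := sup_le h2.le (Subgroup.commutator_le.2 fun a ha b hb => by
    rw [commutatorElement_def]
    exact S.mul_mem (S.mul_mem (S.mul_mem ha hb) (S.inv_mem ha)) (S.inv_mem hb))
  rcases hle.lt_or_eq with hlt | heq
  · rw [← hmax _ le_sup_left hlt (h3.sup hDS) (h4.sup hD)]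
    exact Subgroup.mem_sup_right (Subgroup.commutator_mem_commutator hx hy)
  exfalso
  have hfr : ⁅S, S⁆ ≤ (frattini S).map S.subtype := Subgroup.commutator_le.2 fun a ha b hb =>
    (SectRank.frattini_elemSection hS).comm a ha b hb
  have htop : T.subgroupOf S ⊔ frattini S = ⊤ := by
    apply Subgroup.map_injective S.subtype_injective
    rw [Subgroup.map_sup, Subgroup.subgroupOf_map_subtype, inf_eq_left.2 h2.le,
      ← MonoidHom.range_eq_map, Subgroup.range_subtype]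
    exact le_antisymm (sup_le h2.le (Subgroup.map_subtype_le _))
      (heq.ge.trans (sup_le_sup_left hfr _))
  exact h2.not_ge (Subgroup.subgroupOf_eq_top.1 (frattini_nongenerating htop))

theorem isCyclic_image {R A : Type*} [Group R] [Finite R] [CommRing A] [IsDomain A]
    (f : R →* A) : IsCyclic (R ⧸ f.toHomUnits.ker) :=
  isCyclic_of_injective_ringHom ((Units.coeHom A).comp (QuotientGroup.kerLift f.toHomUnits))
    (Units.val_injective.comp (QuotientGroup.kerLift_injective f.toHomUnits))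

/-- A finite abelian group of endomorphisms with no invariant kernels is cyclic. -/
theorem exists_gen_of_comm {R V : Type*} [Group R] [Finite R] [AddCommGroup V] [Nontrivial V]
    (φ : R →* AddMonoid.End V) (hφc : ∀ r r', φ r * φ r' = φ r' * φ r)
    (hirr : ∀ s : AddMonoid.End V, (∀ r, s * φ r = φ r * s) → s ≠ 0 → ∀ v, s v = 0 → v = 0) :
    ∃ r : R, ∀ y : R, ∃ j : ℤ, φ ((r ^ j)⁻¹ * y) = 1 := by
  let A := Subring.closure (Set.range φ)
  have hA : ∀ x ∈ Set.range φ, ∀ y ∈ Set.range φ, x * y = y * x := by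
    rintro _ ⟨r, rfl⟩ _ ⟨r', rfl⟩
    exact hφc r r'
  letI : CommRing A := Subring.closureCommRingOfComm hA
  haveI : Nontrivial A := ⟨⟨0, 1, fun h => by
    obtain ⟨v, hv⟩ := exists_ne (0 : V)
    exact hv (DFunLike.congr_fun (congrArg Subtype.val h) v).symm⟩⟩
  haveI : NoZeroDivisors A := ⟨fun {s t} hst => or_iff_not_imp_left.2 fun hs =>
    Subtype.ext (AddMonoidHom.ext fun v => hirr s.1
      (fun r => congrArg Subtype.val (mul_comm s ⟨φ r, Subring.subset_closure ⟨r, rfl⟩⟩))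
      (fun e => hs (Subtype.ext e)) _ (DFunLike.congr_fun (congrArg Subtype.val hst) v))⟩
  haveI : IsDomain A := NoZeroDivisors.to_isDomain A
  let f : R →* A := φ.codRestrict A fun r => Subring.subset_closure ⟨r, rfl⟩
  haveI : IsCyclic (R ⧸ f.toHomUnits.ker) := isCyclic_image f
  obtain ⟨q, hq⟩ := IsCyclic.exists_generator (α := R ⧸ f.toHomUnits.ker)
  obtain ⟨r, rfl⟩ := QuotientGroup.mk_surjective q
  refine ⟨r, fun y => ?_⟩
  obtain ⟨j, hj⟩ := hq (y : R ⧸ f.toHomUnits.ker)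
  have hk : (r ^ j)⁻¹ * y ∈ f.toHomUnits.ker :=
    QuotientGroup.eq.1 (by rw [QuotientGroup.mk_zpow]; exact hj)
  exact ⟨j, congrArg Subtype.val (congrArg Units.val (MonoidHom.mem_ker.1 hk))⟩

/-- An abelian group acting irreducibly acts through a cyclic quotient. -/
theorem exists_gen (hTS : T < S) (hST : NormBy S T) (hRS : NormBy R S) (hRT : NormBy R T)
    (hab : ∀ x ∈ S, ∀ y ∈ S, x * y * x⁻¹ * y⁻¹ ∈ T)
    (hmax : ∀ T' : Subgroup G, T ≤ T' → T' < S → NormBy S T' → NormBy R T' → T' = T)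
    (hcomm : ∀ r ∈ R, ∀ r' ∈ R, ∀ x ∈ S,
      (r * r') * x * (r * r')⁻¹ * ((r' * r) * x * (r' * r)⁻¹)⁻¹ ∈ T)
    (R₀ : Subgroup G) (hR₀ : ∀ r, r ∈ R₀ ↔ r ∈ R ∧ ∀ x ∈ S, r * x * r⁻¹ * x⁻¹ ∈ T) :
    ∃ r ∈ R, R ≤ R₀ ⊔ Subgroup.zpowers r := by
  classical
  set N := T.subgroupOf S with hN
  haveI hNn : N.Normal := hST.normal
  letI : CommGroup (S ⧸ N) :=
    { (inferInstance : Group (S ⧸ N)) with
      mul_comm := fun a b => by
        obtain ⟨a, rfl⟩ := QuotientGroup.mk_surjective a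
        obtain ⟨b, rfl⟩ := QuotientGroup.mk_surjective b
        rw [← QuotientGroup.mk_mul, ← QuotientGroup.mk_mul, QuotientGroup.eq]
        show ((a : G) * b)⁻¹ * ((b : G) * a) ∈ T
        simpa [mul_assoc] using hab _ (S.inv_mem b.2) _ (S.inv_mem a.2) }
  let V := Additive (S ⧸ N)
  let act : R → (S →* S) := fun r => (Glauberman.conjEquiv (hRS r r.2)).toMonoidHom
  have hpres : ∀ r : R, N ≤ N.comap (act r) := fun r x hx => (hRT r r.2 x).1 hx
  let φ : R →* AddMonoid.End V :=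
    { toFun := fun r => MonoidHom.toAdditive (QuotientGroup.map N N (act r) (hpres r))
      map_one' := by
        refine AddMonoidHom.ext fun v => ?_
        induction v using Additive.rec with | _ v => ?_
        induction v using QuotientGroup.induction_on with | _ x => ?_
        show Additive.ofMul (((act 1 x : S) : S ⧸ N)) = Additive.ofMul ((x : S) : S ⧸ N)
        congr 2
        exact Subtype.ext (by simp [act])
      map_mul' := fun r r' => by
        refine AddMonoidHom.ext fun v => ?_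
        induction v using Additive.rec with | _ v => ?_
        induction v using QuotientGroup.induction_on with | _ x => ?_
        show Additive.ofMul (((act (r * r') x : S) : S ⧸ N)) =
          Additive.ofMul (((act r (act r' x) : S) : S ⧸ N))
        congr 2
        exact Subtype.ext (by simp [act, mul_assoc]) }
  have hφc : ∀ r r' : R, φ r * φ r' = φ r' * φ r := by
    intro r r'
    rw [← map_mul, ← map_mul]
    refine AddMonoidHom.ext fun v => ?_
    induction v using Additive.rec with | _ v => ?_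
    induction v using QuotientGroup.induction_on with | _ x => ?_
    refine congrArg Additive.ofMul ((QuotientGroup.eq).2 ?_)
    refine Subgroup.mem_subgroupOf.2 ?_
    have h1 : ((r : G) * r' * x * ((r : G) * r')⁻¹ *
        ((r' : G) * r * x * ((r' : G) * r)⁻¹)⁻¹) ∈ T := hcomm r r.2 r' r'.2 x x.2
    set a : G := (r : G) * r' * x * ((r : G) * r')⁻¹
    set b : G := (r' : G) * r * x * ((r' : G) * r)⁻¹
    have ha : a ∈ S := (hRS _ (R.mul_mem r.2 r'.2) x).1 x.2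
    have h2 := (hST _ (S.inv_mem ha) _).1 (T.inv_mem h1)
    show a⁻¹ * b ∈ T
    simpa [mul_assoc] using h2
  haveI : Nontrivial V := by
    obtain ⟨x, hx, hxT⟩ := SetLike.exists_of_lt hTS
    exact ⟨⟨Additive.ofMul ((⟨x, hx⟩ : S) : S ⧸ N), 0, fun h => hxT
      (Subgroup.mem_subgroupOf.1 ((QuotientGroup.eq_one_iff (N := N) (⟨x, hx⟩ : S)).1
        (Additive.ofMul.injective h)))⟩⟩
  have hirr : ∀ s : AddMonoid.End V, (∀ r, s * φ r = φ r * s) → s ≠ 0 → ∀ v, s v = 0 → v = 0 := by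
    intro s hsc hs
    let U : Subgroup S := (MonoidHom.ker (AddMonoidHom.toMultiplicative s :
      S ⧸ N →* S ⧸ N)).comap (QuotientGroup.mk' N)
    have hU : ∀ x : S, x ∈ U ↔ s (Additive.ofMul ((x : S) : S ⧸ N)) = 0 := fun x => Iff.rfl
    let T' : Subgroup G := U.map S.subtype
    have hT'S : T' ≤ S := Subgroup.map_subtype_le _
    have hTT' : T ≤ T' := fun x hx => ⟨⟨x, hTS.le hx⟩, (hU _).2 (by
      rw [(QuotientGroup.eq_one_iff (N := N) (⟨x, hTS.le hx⟩ : S)).2 hx, ofMul_one, map_zero]), rfl⟩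
    have hne : T' < S := by
      refine hT'S.lt_of_ne fun e => hs (AddMonoidHom.ext fun v => ?_)
      obtain ⟨x, hx⟩ := QuotientGroup.mk_surjective (Additive.toMul v)
      obtain ⟨y, hy, hyx⟩ := e.ge x.2
      have := (hU y).1 hy
      rw [Subtype.ext hyx, hx] at this
      exact this
    have hn1 : NormBy S T' := fun g hg => Glauberman.normalises_of_mem fun y hy => by
      obtain ⟨y, hy, rfl⟩ := hy
      refine ⟨⟨g, hg⟩ * y * (⟨g, hg⟩ : S)⁻¹, (hU _).2 ?_, rfl⟩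
      rw [QuotientGroup.mk_mul, QuotientGroup.mk_mul, QuotientGroup.mk_inv, mul_inv_cancel_comm]
      exact (hU y).1 hy
    have hn2 : NormBy R T' := fun g hg => Glauberman.normalises_of_mem fun y hy => by
      obtain ⟨y, hy, rfl⟩ := hy
      refine ⟨act ⟨g, hg⟩ y, (hU _).2 ?_, rfl⟩
      refine (DFunLike.congr_fun (hsc ⟨g, hg⟩) (Additive.ofMul ((y : S) : S ⧸ N))).trans ?_
      exact (congrArg (φ ⟨g, hg⟩) ((hU y).1 hy)).trans (map_zero _)
    have hTeq := hmax T' hTT' hne hn1 hn2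
    intro v hv
    obtain ⟨x, hx⟩ := QuotientGroup.mk_surjective (Additive.toMul v)
    have h1 : (x : G) ∈ T' := ⟨x, (hU x).2 (by rw [hx]; exact hv), rfl⟩
    rw [hTeq] at h1
    rw [(QuotientGroup.eq_one_iff (N := N) x).2 h1] at hx
    exact (congrArg Additive.ofMul hx).symm
  obtain ⟨r, hr⟩ := exists_gen_of_comm φ hφc hirr
  refine ⟨r, r.2, fun y hy => ?_⟩
  obtain ⟨j, hj⟩ := hr ⟨y, hy⟩
  have hm : ((r : G) ^ j)⁻¹ * y ∈ R₀ := by
    refine (hR₀ _).2 ⟨by simpa using ((r ^ j)⁻¹ * (⟨y, hy⟩ : R)).2, fun x hx => ?_⟩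
    have h1 := DFunLike.congr_fun hj (Additive.ofMul ((⟨x, hx⟩ : S) : S ⧸ N))
    have h2 := QuotientGroup.eq.1 (Additive.ofMul.injective h1).symm
    have h3 := Subgroup.mem_subgroupOf.1 h2
    set w : G := ((r : G) ^ j)⁻¹ * y
    have h4 : x⁻¹ * (w * x * w⁻¹) ∈ T := by simpa [act, w] using h3
    simpa [mul_assoc] using (hST x hx _).1 h4
  have := (R₀ ⊔ Subgroup.zpowers (r : G)).mul_mem
    (Subgroup.mem_sup_right (Subgroup.zpow_mem_zpowers (r : G) j)) (Subgroup.mem_sup_left hm)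
  simpa using this

end Cfsg.Agent.Lib.RelMcKay
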