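import Cfsg.Agent.Lib.Glauberman.Above
import Cfsg.Agent.Lib.SylowCorr.Compose
import Cfsg.Agent.Lib.DetHom
import Cfsg.Agent.Lib.Clifford.CharExtension
import Cfsg.Agent.Lib.Clifford.Gallagher
import Cfsg.Agent.S0886
import Cfsg.Agent.S0887

/-!
# Characters over and extending a character, for subgroups of an ambient group
-/

set_option autoImplicit false

namespace Cfsg.Agent.Lib.RelMcKay

open Cfsg
open Cfsg.Agent.Lib
open Cfsg.Agent.Lib.Glauberman (IsInv IsConjBy resSub Normalises charMult isCharacter_resSub)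
open scoped ComplexConjugate

variable {G : Type*} [Group G] [Finite G] {L K M H X : Subgroup G}

/-- `χ` lies over `θ`. -/
def Over (h : K ≤ H) (θ : IrrCharacter K) (χ : IrrCharacter H) : Prop :=
  charMult (resSub h (χ : H → ℂ)) (θ : K → ℂ) ≠ 0

/-- `χ` extends `θ`. -/
def IsExt (h : K ≤ H) (θ : IrrCharacter K) (χ : IrrCharacter H) : Prop :=
  resSub h (χ : H → ℂ) = (θ : K → ℂ)

/-- `θ` extends to `H`. -/
def Ext (H : Subgroup G) (θ : IrrCharacter K) : Prop :=
  ∃ (h : K ≤ H) (χ : IrrCharacter H), IsExt h θ χ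

/-- The degree. -/
noncomputable def deg (χ : IrrCharacter H) : ℕ := charDegree (χ : H → ℂ)

theorem deg_spec (χ : IrrCharacter H) : (χ : H → ℂ) 1 = (deg χ : ℂ) := by
  obtain ⟨n, hn⟩ := Chars.isCharacter_exists_degree (Chars.irr_isCharacter χ)
  simp [deg, charDegree, hn]

theorem deg_pos (χ : IrrCharacter H) : 0 < deg χ := by
  have := Chars.irr_apply_one_ne_zero χ
  rw [deg_spec, Nat.cast_ne_zero] at this
  omega

omit [Finite G] in
theorem resSub_one (h : K ≤ H) (χ : H → ℂ) : resSub h χ 1 = χ 1 := rfl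

theorem IsExt.over {h : K ≤ H} {θ : IrrCharacter K} {χ : IrrCharacter H} (e : IsExt h θ χ) :
    Over h θ χ := by
  classical
  rw [Over, e, Glauberman.charMult_irr, if_pos rfl]
  exact one_ne_zero

theorem IsExt.deg_eq {h : K ≤ H} {θ : IrrCharacter K} {χ : IrrCharacter H} (e : IsExt h θ χ) :
    deg χ = deg θ := by
  have := congrFun e 1
  rw [resSub_one, deg_spec, deg_spec] at this
  exact_mod_cast this

theorem IsExt.eq_of {h : K ≤ H} {θ θ' : IrrCharacter K} {χ : IrrCharacter H} (e : IsExt h θ χ)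
    (o : Over h θ' χ) : θ' = θ := by
  classical
  rw [Over, e, Glauberman.charMult_irr] at o
  exact (ite_ne_right_iff.1 o).1.symm

theorem Over.trans {h : K ≤ M} {h' : M ≤ H} {θ : IrrCharacter K} {ψ : IrrCharacter M}
    {χ : IrrCharacter H} (o : Over h θ ψ) (o' : Over h' ψ χ) : Over (h.trans h') θ χ := by
  rw [Over, Glauberman.charMult_trans h' h (Chars.irr_isCharacter χ)]
  intro e
  exact mul_ne_zero o' o (Finset.sum_eq_zero_iff.1 e ψ (Finset.mem_univ _))

theorem Over.exists_mid (h : K ≤ M) (h' : M ≤ H) {θ : IrrCharacter K} {χ : IrrCharacter H}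
    (o : Over (h.trans h') θ χ) : ∃ ψ, Over h θ ψ ∧ Over h' ψ χ := by
  rw [Over, Glauberman.charMult_trans h' h (Chars.irr_isCharacter χ)] at o
  obtain ⟨ψ, -, hψ⟩ := Finset.exists_ne_zero_of_sum_ne_zero o
  exact ⟨ψ, right_ne_zero_of_mul hψ, left_ne_zero_of_mul hψ⟩

/-- A character with irreducible restriction is irreducible. -/
theorem isIrr_of_resSub (h : K ≤ H) {ψ : H → ℂ} (hψ : Cfsg.IsCharacter H ψ) (θ : IrrCharacter K)
    (e : resSub h ψ = (θ : K → ℂ)) : IsIrrCharacter H ψ := by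
  obtain ⟨n, ρ, rfl⟩ := hψ
  obtain ⟨m, σ, hσ, hσθ⟩ := θ.2
  haveI := hσ
  obtain ⟨ε⟩ := Clifford.equiv_of_char_eq σ (ρ.comp (Subgroup.inclusion h) : Representation ℂ K _)
    (hσθ.trans e.symm)
  haveI : Representation.IsIrreducible (ρ.comp (Subgroup.inclusion h) : Representation ℂ K _) :=
    Chars.isIrreducible_of_equiv ε
  exact ⟨n, ρ, Clifford.isIrreducible_of_comp ρ (Subgroup.inclusion h), rfl⟩

/-- A restriction of an extension extends. -/
theorem Ext.restrict {θ : IrrCharacter K} (e : Ext H θ) (hKM : K ≤ M) (hMH : M ≤ H) : Ext M θ := by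
  obtain ⟨h, χ, hχ⟩ := e
  exact ⟨hKM, ⟨_, isIrr_of_resSub hKM
    (isCharacter_resSub hMH (Chars.irr_isCharacter χ)) θ hχ⟩, hχ⟩

theorem ext_self (θ : IrrCharacter K) : Ext K θ := ⟨le_rfl, θ, rfl⟩

/-- `g` fixes `θ`. -/
def Fixes (g : G) (θ : IrrCharacter K) : Prop :=
  Normalises g K ∧ IsConjBy g (θ : K → ℂ) (θ : K → ℂ)

theorem fixes_of_mem {g : G} (hg : g ∈ K) (θ : IrrCharacter K) : Fixes g θ :=
  ⟨Glauberman.normalises_of_mem fun x hx => K.mul_mem (K.mul_mem hg hx) (K.inv_mem hg),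
    Glauberman.isConjBy_self_of_mem (Chars.irr_isClassFunction θ) hg⟩

omit [Finite G] in
theorem normalises_one : Normalises (1 : G) K := fun x => by simp

/-- The elements fixing `θ`. -/
def stabGroup (θ : IrrCharacter K) : Subgroup G where
  carrier := {g | Fixes g θ}
  one_mem' := ⟨normalises_one, Glauberman.isConjBy_refl_one _⟩
  mul_mem' := fun {a b} ha hb => ⟨ha.1.mul hb.1, IsConjBy.trans hb.1 hb.2 ha.2⟩
  inv_mem' := fun {a} ha => ⟨ha.1.inv, fun x x' e => (ha.2 x' x (by rw [e]; group)).symm⟩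

omit [Finite G] in
theorem mem_stabGroup {g : G} {θ : IrrCharacter K} : g ∈ stabGroup θ ↔ Fixes g θ := Iff.rfl

theorem le_stabGroup (θ : IrrCharacter K) : K ≤ stabGroup θ := fun _ hg => fixes_of_mem hg θ

/-- Conjugation of `θ`. -/
theorem exists_conj {g : G} (hg : Normalises g K) (θ : IrrCharacter K) :
    ∃ θ' : IrrCharacter K, IsConjBy g (θ : K → ℂ) (θ' : K → ℂ) :=
  Glauberman.exists_isConjBy hg θ

theorem IsExt.fixes {h : K ≤ H} {θ : IrrCharacter K} {χ : IrrCharacter H} (e : IsExt h θ χ)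
    {g : G} (hg : Fixes g χ) (hK : Normalises g K) : Fixes g θ := by
  refine ⟨hK, fun x x' hx => ?_⟩
  rw [← congrFun e x, ← congrFun e x']
  exact hg.2 ⟨x, h x.2⟩ ⟨x', h x'.2⟩ hx

theorem Over.conj {h : K ≤ H} {θ θ' : IrrCharacter K} {χ χ' : IrrCharacter H} (o : Over h θ χ)
    {g : G} (hK : Normalises g K) (hH : Normalises g H) (hθ : IsConjBy g (θ : K → ℂ) (θ' : K → ℂ))
    (hχ : IsConjBy g (χ : H → ℂ) (χ' : H → ℂ)) : Over h θ' χ' := by
  rwa [Over, Glauberman.charMult_conjBy hH hK h hχ hθ]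

/-- `K` is normalised by `H`. -/
def NormBy (H K : Subgroup G) : Prop := ∀ g ∈ H, Normalises g K

theorem normBy_of_mem (h : ∀ g ∈ H, ∀ x ∈ K, g * x * g⁻¹ ∈ K) : NormBy H K :=
  fun g hg => Glauberman.normalises_of_mem (h g hg)

omit [Finite G] in
theorem NormBy.mem (h : NormBy H K) {g x : G} (hg : g ∈ H) (hx : x ∈ K) : g * x * g⁻¹ ∈ K :=
  (h g hg x).1 hx

omit [Finite G] in
theorem NormBy.normal (h : NormBy H K) : (K.subgroupOf H).Normal :=
  ⟨fun _ hx g => h.mem g.2 hx⟩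

omit [Finite G] in
theorem NormBy.mono (h : NormBy H K) (hXH : X ≤ H) : NormBy X K := fun g hg => h g (hXH hg)

/-- The constituents of an invariant character's overlying character. -/
theorem resSub_eq_smul (h : K ≤ H) (hn : NormBy H K) {θ : IrrCharacter K}
    (hinv : H ≤ stabGroup θ) {χ : IrrCharacter H} (o : Over h θ χ) :
    resSub h (χ : H → ℂ) = (charMult (resSub h (χ : H → ℂ)) (θ : K → ℂ) : ℂ) • (θ : K → ℂ) := by
  conv_lhs => rw [Glauberman.eq_sum_charMult (isCharacter_resSub h (Chars.irr_isCharacter χ))]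
  refine Finset.sum_eq_single θ (fun φ _ hφ => ?_) (by simp)
  suffices charMult (resSub h (χ : H → ℂ)) (φ : K → ℂ) = 0 by simp [this]
  by_contra h0
  obtain ⟨g, hg, hgc⟩ := Glauberman.exists_conj_of_constituent h (fun g hg x hx => hn.mem hg hx)
    χ θ φ o h0
  exact hφ (Subtype.ext (IsConjBy.eq (hinv hg).1 hgc (hinv hg).2))

theorem deg_eq_mul (h : K ≤ H) (hn : NormBy H K) {θ : IrrCharacter K}
    (hinv : H ≤ stabGroup θ) {χ : IrrCharacter H} (o : Over h θ χ) :
    deg χ = charMult (resSub h (χ : H → ℂ)) (θ : K → ℂ) * deg θ := by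
  have := congrFun (resSub_eq_smul h hn hinv o) 1
  rw [resSub_one, Pi.smul_apply, smul_eq_mul, deg_spec, deg_spec] at this
  exact_mod_cast this

/-- The degree ratio divides the index. -/
theorem ratio_dvd (h : K ≤ H) (hn : NormBy H K) {θ : IrrCharacter K} {χ : IrrCharacter H}
    (o : Over h θ χ) : deg θ ∣ deg χ ∧ deg χ / deg θ ∣ K.relIndex H := by
  classical
  haveI := Fintype.ofFinite H
  haveI := Fintype.ofFinite (K.subgroupOf H)
  haveI := hn.normal
  refine S0887.result (K.subgroupOf H) _ χ.2 _ (Glauberman.isIrr_pullSub h θ) ?_ _ _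
    (deg_spec χ) ?_
  · have := Glauberman.classInner_pullSub h (Chars.irr_isCharacter χ) θ
    change classInner (Clifford.resFun (K.subgroupOf H) (χ : H → ℂ)) _ ≠ 0
    rw [this]
    exact Nat.cast_ne_zero.2 o
  · exact deg_spec θ

theorem isExt_of_deg (h : K ≤ H) (hn : NormBy H K) {θ : IrrCharacter K}
    (hinv : H ≤ stabGroup θ) {χ : IrrCharacter H} (o : Over h θ χ) (hd : deg χ = deg θ) :
    IsExt h θ χ := by
  have h1 := deg_eq_mul h hn hinv o
  rw [hd] at h1
  have h2 : charMult (resSub h (χ : H → ℂ)) (θ : K → ℂ) = 1 :=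
    Nat.eq_of_mul_eq_mul_right (deg_pos θ) (by rw [← h1, one_mul])
  rw [IsExt, resSub_eq_smul h hn hinv o, h2, Nat.cast_one, one_smul]

/-- Over a `p`-power index, prime-to-`p` degree means extension. -/
theorem isExt_of_pPrime {p : ℕ} (hp : p.Prime) {a : ℕ} (h : K ≤ H) (hn : NormBy H K)
    (hidx : K.relIndex H = p ^ a) {θ : IrrCharacter K}
    (hinv : H ≤ stabGroup θ) {χ : IrrCharacter H} (o : Over h θ χ) (hd : ¬ p ∣ deg χ) :
    IsExt h θ χ := by
  refine isExt_of_deg h hn hinv o ?_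
  obtain ⟨h1, h2⟩ := ratio_dvd h hn o
  rw [hidx] at h2
  obtain ⟨j, -, hj⟩ := (Nat.dvd_prime_pow hp).1 h2
  have h3 := Nat.div_mul_cancel h1
  rw [hj] at h3
  rcases j with _ | j
  · simpa using h3.symm
  · exact absurd ((dvd_pow_self p j.succ_ne_zero).trans (Dvd.intro _ h3)) hd

/-- Extension over a cyclic quotient. -/
theorem ext_of_cyclic (hKH : K ≤ H) (hn : NormBy H K) {θ : IrrCharacter K}
    (hinv : H ≤ stabGroup θ) (hcyc : haveI := hn.normal; IsCyclic (H ⧸ K.subgroupOf H)) :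
    Ext H θ := by
  haveI := hn.normal
  obtain ⟨χ, hχ, e⟩ := S0886.result (K.subgroupOf H) hcyc _ (Glauberman.isIrr_pullSub hKH θ)
    fun g x => (hinv g.2).2 _ _ rfl
  exact ⟨hKH, ⟨χ, hχ⟩, funext fun x => e ⟨⟨x, hKH x.2⟩, x.2⟩⟩

/-- The quotient is cyclic when one element generates. -/
theorem ext_of_gen (hKH : K ≤ H) (hn : NormBy H K) {θ : IrrCharacter K}
    (hinv : H ≤ stabGroup θ) {r : G} (hr : r ∈ H) (hgen : H ≤ K ⊔ Subgroup.zpowers r) :
    Ext H θ := by
  haveI := hn.normal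
  refine ext_of_cyclic hKH hn hinv ?_
  let q := QuotientGroup.mk' (K.subgroupOf H)
  refine isCyclic_iff_exists_zpowers_eq_top.2 ⟨q ⟨r, hr⟩, eq_top_iff.2 fun y _ => ?_⟩
  obtain ⟨x, rfl⟩ := QuotientGroup.mk'_surjective _ y
  have hle : K ⊔ Subgroup.zpowers r ≤
      ((Subgroup.zpowers (q ⟨r, hr⟩)).comap q).map H.subtype := by
    refine sup_le (fun k hk => ⟨⟨k, hKH hk⟩, ?_, rfl⟩) (Subgroup.zpowers_le.2 ⟨⟨r, hr⟩, ?_, rfl⟩)
    · show q ⟨k, hKH hk⟩ ∈ Subgroup.zpowers (q ⟨r, hr⟩)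
      rw [show q ⟨k, hKH hk⟩ = 1 from (QuotientGroup.eq_one_iff _).2 hk]
      exact one_mem _
    · exact Subgroup.mem_zpowers _
  obtain ⟨z, hz, hzx⟩ := hle (hgen x.2)
  rwa [Subtype.ext hzx] at hz

/-- Irreducible restriction gives a bijection of the overlying characters. -/
theorem ext_iff_of_restrict (hKM : K ≤ M) (hKX : K ≤ X) (hMY : M ≤ H) (hXY : X ≤ H)
    (hint : X ⊓ M ≤ K) (hY : H ≤ X ⊔ M) (hn : NormBy H M) {ψ : IrrCharacter M}
    (hinv : H ≤ stabGroup ψ) {θ : IrrCharacter K} (e : IsExt hKM θ ψ) :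
    Ext H ψ ↔ Ext X θ := by
  classical
  constructor
  · rintro ⟨h, χ, hχ⟩
    refine Ext.restrict (H := H) ⟨hKM.trans h, χ, ?_⟩ hKX hXY
    rw [IsExt, ← Glauberman.resSub_resSub h hKM, hχ]
    exact e
  rintro ⟨_, η, hη⟩
  haveI := Fintype.ofFinite H
  haveI := Fintype.ofFinite X
  haveI := Fintype.ofFinite K
  haveI := Fintype.ofFinite (M.subgroupOf H)
  haveI := hn.normal
  set ψ' := Glauberman.pullSub hMY (ψ : M → ℂ) with hψ'
  have hψi : IsIrrCharacter (M.subgroupOf H) ψ' := Glauberman.isIrr_pullSub hMY ψ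
  have hconj : ∀ g : H, Clifford.conjFun g ψ' = ψ' := fun g => funext fun x =>
    (hinv g.2).2 _ _ rfl
  set F := indFun (M.subgroupOf H) ψ' with hF
  have hFc : Cfsg.IsCharacter H F := Chars.isCharacter_indFun _ (Chars.isCharacter_of_isIrrCharacter hψi)
  obtain ⟨m, hm⟩ := Chars.isCharacter_exists_nat_decomp hFc
  have hidx : (M.subgroupOf H).index * Nat.card K = Nat.card X := by
    have h1 : (M.subgroupOf H).index = M.relIndex H := rfl
    have hle : X ≤ Subgroup.normalizer (M : Set G) := fun x hx =>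
      Subgroup.mem_normalizer_iff.2 (hn x (hXY hx))
    have h2 : M.relIndex H = M.relIndex X := by
      have hH : H = X ⊔ M := le_antisymm hY (sup_le hXY hMY)
      rw [hH]
      haveI := (hn.mono (show X ≤ H from hXY)).normal
      haveI := (hn.mono (show X ⊔ M ≤ H from sup_le hXY hMY)).normal
      exact Nat.card_congr (QuotientGroup.quotientInfEquivProdNormalizerQuotient X M hle).toEquiv.symm
    have h3 : M ⊓ X = K := le_antisymm (by rwa [inf_comm]) (le_inf hKM hKX)
    rw [h1, h2, ← Subgroup.inf_relIndex_right, h3]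
    rw [mul_comm, ← Subgroup.relIndex_bot_left, ← Subgroup.relIndex_bot_left X]
    exact Subgroup.relIndex_mul_relIndex ⊥ K X bot_le hKX
  -- values of the induced function on `X`
  have hFX : ∀ x : X, F ⟨x, hXY x.2⟩ =
      if hx : (x : G) ∈ K then ((M.subgroupOf H).index : ℂ) * (θ : K → ℂ) ⟨x, hx⟩ else 0 := by
    intro x
    simp only [hF, indFun]
    have hval : ∀ z : H, extendByZero (M.subgroupOf H) ψ' (z⁻¹ * ⟨x, hXY x.2⟩ * z) =
        if hx : (x : G) ∈ K then (θ : K → ℂ) ⟨x, hx⟩ else 0 := by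
      intro z
      by_cases hx : (x : G) ∈ K
      · have hmem : z⁻¹ * ⟨x, hXY x.2⟩ * z ∈ M.subgroupOf H := by
          have := hn.mem (H.inv_mem z.2) (hKM hx)
          simpa [Subgroup.mem_subgroupOf] using this
        rw [dif_pos hx, Chars.extendByZero_of_mem _ hmem]
        refine ((hinv (H.inv_mem z.2)).2 ⟨x, hKM hx⟩ _ ?_).trans (congrFun e ⟨x, hx⟩)
        simp
      · rw [dif_neg hx, Chars.extendByZero_of_not_mem _ fun hmem => hx (hint ⟨x.2, ?_⟩)]
        have := hn.mem z.2 (Subgroup.mem_subgroupOf.1 hmem)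
        simpa [mul_assoc] using this
    rw [Finset.sum_congr rfl fun z _ => hval z, Finset.sum_const, Finset.card_univ,
      Fintype.card_eq_nat_card, nsmul_eq_mul, ← (M.subgroupOf H).card_mul_index, Nat.cast_mul,
      mul_assoc, inv_mul_cancel_left₀ (Nat.cast_ne_zero.2 Nat.card_pos.ne')]
    split_ifs <;> simp
  have hsum : ∀ f : X → ℂ, classInner (resSub hXY F) f =
      (Nat.card X : ℂ)⁻¹ * (((M.subgroupOf H).index : ℂ) *
        ∑ k : K, (θ : K → ℂ) k * conj (f ⟨k, hKX k.2⟩)) := by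
    intro f
    simp only [classInner, Finset.mul_sum]
    rw [← Finset.sum_subset (Finset.subset_univ (Finset.univ.filter fun x : X => (x : G) ∈ K))
      fun x _ hx => ?_]
    · refine Finset.sum_bij' (fun x hx => ⟨x, (Finset.mem_filter.1 hx).2⟩)
        (fun k _ => ⟨k, hKX k.2⟩) (fun _ _ => Finset.mem_univ _)
        (fun k _ => Finset.mem_filter.2 ⟨Finset.mem_univ _, k.2⟩) (fun _ _ => rfl) (fun _ _ => rfl)
        fun x hx => ?_
      show _ * (F ⟨x, hXY x.2⟩ * conj (f x)) = _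
      rw [hFX x, dif_pos (Finset.mem_filter.1 hx).2]
      ring
    · show _ * (F ⟨x, hXY x.2⟩ * conj (f x)) = 0
      rw [hFX x, dif_neg fun h => hx (Finset.mem_filter.2 ⟨Finset.mem_univ _, h⟩)]
      ring
  have hXne : (Nat.card X : ℂ) ≠ 0 := Nat.cast_ne_zero.2 Nat.card_pos.ne'
  have hnormθ : ∑ k : K, (θ : K → ℂ) k * conj ((θ : K → ℂ) k) = (Nat.card K : ℂ) := by
    have := Chars.classInner_irr_self θ
    rw [classInner, inv_mul_eq_iff_eq_mul₀ (Nat.cast_ne_zero.2 Nat.card_pos.ne'), mul_one] at this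
    exact this
  have hFη : classInner (resSub hXY F) (η : X → ℂ) = 1 := by
    rw [hsum]
    simp only [show ∀ k : K, (η : X → ℂ) ⟨k, hKX k.2⟩ = (θ : K → ℂ) k from fun k => congrFun hη k]
    rw [hnormθ, ← Nat.cast_mul, hidx, inv_mul_cancel₀ hXne]
  have hFF : classInner (resSub hXY F) (resSub hXY F) = ((M.subgroupOf H).index : ℂ) := by
    rw [hsum]
    simp only [show ∀ k : K, resSub hXY F ⟨k, hKX k.2⟩ = ((M.subgroupOf H).index : ℂ) * (θ : K → ℂ) k
      from fun k => (hFX ⟨k, hKX k.2⟩).trans (dif_pos k.2)]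
    simp only [map_mul, Complex.conj_natCast, mul_left_comm _ ((M.subgroupOf H).index : ℂ),
      ← Finset.mul_sum, hnormθ]
    have hX : ((M.subgroupOf H).index : ℂ) * (Nat.card K : ℂ) = (Nat.card X : ℂ) := by
      exact_mod_cast hidx
    rw [← hX]
    field_simp
  have hmv : ∀ χ : IrrCharacter H, classInner F (χ : H → ℂ) = m χ := fun χ => by
    rw [hm, Chars.classInner_sum_smul_irr]
  have hm2 : classInner F F = ∑ χ, (m χ : ℂ) * m χ := by
    conv_lhs => arg 2; rw [hm]
    rw [Chars.classInner_sum_right]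
    refine Finset.sum_congr rfl fun χ _ => ?_
    rw [Chars.classInner_smul_right, hmv, Complex.conj_natCast]
  obtain ⟨hirr, -, -, hall⟩ := Clifford.irreducible_of_norm_eq
    (fun i : {χ : IrrCharacter H // m χ ≠ 0} => m i.1)
    (fun i => resSub hXY (i.1 : H → ℂ)) (fun i => i.2)
    (fun i => isCharacter_resSub hXY (Chars.irr_isCharacter i.1))
    (fun i => Chars.irr_apply_one_ne_zero i.1) (F := resSub hXY F)
    (by
      funext x
      show F ⟨x, hXY x.2⟩ = _
      rw [congrFun hm]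
      simp only [Finset.sum_apply, Pi.smul_apply, smul_eq_mul, Glauberman.resSub_apply]
      rw [← Finset.sum_filter_add_sum_filter_not _ (fun χ => m χ ≠ 0)]
      rw [Finset.sum_eq_zero (s := Finset.univ.filter fun χ => ¬ m χ ≠ 0) fun χ hχ => by
        rw [not_not.1 (Finset.mem_filter.1 hχ).2, Nat.cast_zero, zero_mul], add_zero]
      exact Finset.sum_subtype _ (fun χ => by simp) _)
    (by
      rw [hFF, ← Clifford.classInner_indFun_invariant hψi hconj, ← hF, hm2]
      rw [← Finset.sum_filter_add_sum_filter_not _ (fun χ => m χ ≠ 0)]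
      rw [Finset.sum_eq_zero (s := Finset.univ.filter fun χ => ¬ m χ ≠ 0) fun χ hχ => by
        rw [not_not.1 (Finset.mem_filter.1 hχ).2, Nat.cast_zero, zero_mul], add_zero]
      exact Finset.sum_subtype _ (fun χ => by simp) _)
  obtain ⟨⟨χ, hχ⟩, hχη⟩ := hall _ η.2 (by rw [hFη]; exact one_ne_zero)
  have hover : Over hMY ψ χ := by
    intro h0
    apply hχ
    have h1 := hmv χ
    rw [hF, Chars.classInner_indFun_left _ _ _ (Chars.irr_isClassFunction χ),
      ← Chars.conj_classInner] at h1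
    have h2 := Glauberman.classInner_pullSub hMY (Chars.irr_isCharacter χ) ψ
    rw [show Clifford.resFun (M.subgroupOf H) (χ : H → ℂ) = fun x : M.subgroupOf H =>
      (χ : H → ℂ) x from rfl] at h2
    rw [← hψ'] at h2
    rw [h2, h0, Nat.cast_zero, map_zero] at h1
    exact_mod_cast h1.symm
  refine ⟨hMY, χ, isExt_of_deg hMY hn hinv hover ?_⟩
  have h1 : (resSub hXY (χ : H → ℂ)) 1 = (η : X → ℂ) 1 := congrFun hχη 1
  have h2 : (η : X → ℂ) 1 = (θ : K → ℂ) 1 := congrFun hη 1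
  have h3 : (ψ : M → ℂ) 1 = (θ : K → ℂ) 1 := congrFun e 1
  rw [resSub_one, deg_spec, h2, ← h3, deg_spec] at h1
  exact_mod_cast h1

end Cfsg.Agent.Lib.RelMcKay
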