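import Cfsg.Agent.Lib.RelMcKay.Basic

/-!
# The number of characters over an invariant character
-/

set_option autoImplicit false
set_option maxHeartbeats 1000000

namespace Cfsg.Agent.Lib.RelMcKay

open Cfsg
open Cfsg.Agent.Lib
open Cfsg.Agent.Lib.Glauberman (IsInv IsConjBy resSub Normalises charMult isCharacter_resSub)
open scoped ComplexConjugate commutatorElement

variable {G : Type*} [Group G] [Finite G] {K M D U H X : Subgroup G}

/-- `θ` extends to all `⟨K, h, g⟩` for `g` centralising `h` modulo `K`. -/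
def Good (H : Subgroup G) (θ : IrrCharacter K) (h : G) : Prop :=
  ∀ g ∈ H, ⁅g, h⁆ ∈ K → Ext (K ⊔ Subgroup.zpowers h ⊔ Subgroup.zpowers g) θ

/-- The pairs counted. -/
def pairs (H : Subgroup G) (θ : IrrCharacter K) : Set (H × H) :=
  {x | ⁅(x.1 : G), (x.2 : G)⁆ ∈ K ∧ Good H θ x.2}

/-- Averaging in an irreducible restriction. -/
theorem sum_conj_mul (hKX : K ≤ X) (θ : IrrCharacter K) (η : IrrCharacter X) (e : IsExt hKX θ η)
    [Fintype K] (a b : X) :
    (deg θ : ℂ) * ∑ k : K, (η : X → ℂ)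
        (Subgroup.inclusion hKX k * a * (Subgroup.inclusion hKX k)⁻¹ * b) =
      (Nat.card K : ℂ) * ((η : X → ℂ) a * (η : X → ℂ) b) := by
  classical
  obtain ⟨n, ρ, hρ, hη⟩ := η.2
  obtain ⟨m, σ, hσ, hσθ⟩ := θ.2
  haveI := hσ
  let r : Representation ℂ K (Fin n → ℂ) := ρ.comp (Subgroup.inclusion hKX)
  obtain ⟨ε⟩ := Clifford.equiv_of_char_eq σ r
    (hσθ.trans (e.symm.trans (by funext k; rw [← hη]; rfl)))
  haveI : r.IsIrreducible := Chars.isIrreducible_of_equiv ε
  set T : Module.End ℂ (Fin n → ℂ) := ∑ k : K, r k * ρ a * r k⁻¹ with hT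
  obtain ⟨c, hc⟩ := Clifford.schur_scalar r T fun g => by
    rw [hT, Finset.sum_mul, Finset.mul_sum]
    refine (Fintype.sum_equiv (Equiv.mulLeft g) _ _ fun k => ?_).symm
    show r g * (r k * ρ a * r k⁻¹) = r (g * k) * ρ a * r (g * k)⁻¹ * r g
    rw [mul_assoc _ (r (g * k)⁻¹) (r g), ← map_mul r _ g, mul_inv_rev, inv_mul_cancel_right,
      map_mul r g k]
    simp only [mul_assoc]
  have hn : (deg θ : ℂ) = n := by
    rw [← deg_spec θ, ← e, resSub_one, ← hη, Representation.char_one, Module.finrank_fin_fun]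
  have htr : LinearMap.trace ℂ _ T = (Nat.card K : ℂ) * (η : X → ℂ) a := by
    rw [hT, map_sum, Finset.sum_congr rfl fun (k : K) _ =>
      show LinearMap.trace ℂ _ (r k * ρ a * r k⁻¹) = (η : X → ℂ) a by
        rw [LinearMap.trace_mul_comm, ← mul_assoc, ← map_mul, inv_mul_cancel, map_one, one_mul,
          ← hη]
        rfl]
    rw [Finset.sum_const, Finset.card_univ, nsmul_eq_mul, Fintype.card_eq_nat_card]
  have hcn : c * (n : ℂ) = (Nat.card K : ℂ) * (η : X → ℂ) a := by
    rw [← htr, hc, map_smul, LinearMap.trace_one, Module.finrank_fin_fun, smul_eq_mul]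
  have hsum : ∑ k : K, (η : X → ℂ)
      (Subgroup.inclusion hKX k * a * (Subgroup.inclusion hKX k)⁻¹ * b) =
      LinearMap.trace ℂ _ (T * ρ b) := by
    rw [hT, Finset.sum_mul, map_sum]
    refine Finset.sum_congr rfl fun k _ => ?_
    rw [← hη, ← map_inv]
    show LinearMap.trace ℂ _ (ρ _) = _
    rw [map_mul ρ, map_mul ρ, map_mul ρ]
    rfl
  rw [hsum, hc, smul_mul_assoc, one_mul, map_smul, smul_eq_mul, hn,
    show LinearMap.trace ℂ _ (ρ b) = (η : X → ℂ) b by rw [← hη]; rfl, ← mul_assoc,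
    mul_comm (n : ℂ), hcn, mul_assoc]

theorem sum_conj_mul_self (θ : IrrCharacter K) [Fintype K] :
    ∑ k : K, (θ : K → ℂ) k * conj ((θ : K → ℂ) k) = (Nat.card K : ℂ) := by
  have := Chars.classInner_irr_self θ
  rwa [classInner, inv_mul_eq_iff_eq_mul₀ (Nat.cast_ne_zero.2 Nat.card_pos.ne'), mul_one] at this

/-- An extension has norm one on each coset. -/
theorem coset_norm (hKX : K ≤ X) (hn : NormBy X K) (θ : IrrCharacter K) (η : IrrCharacter X)
    (e : IsExt hKX θ η) [Fintype K] (h : X) :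
    ∑ m : K, (η : X → ℂ) (h * Subgroup.inclusion hKX m) *
      conj ((η : X → ℂ) (h * Subgroup.inclusion hKX m)) = (Nat.card K : ℂ) := by
  classical
  set ι := Subgroup.inclusion hKX with hι
  have hcl := Chars.irr_isClassFunction η
  have hd : (deg θ : ℂ) ≠ 0 := Nat.cast_ne_zero.2 (deg_pos θ).ne'
  have hK : (Nat.card K : ℂ) ≠ 0 := Nat.cast_ne_zero.2 Nat.card_pos.ne'
  have e1 : (deg θ : ℂ) * ∑ m : K, ∑ k : K, (η : X → ℂ) (ι k * (h * ι m) * (ι k)⁻¹ * (h * ι m)⁻¹) =
      (Nat.card K : ℂ) * ∑ m : K, (η : X → ℂ) (h * ι m) * conj ((η : X → ℂ) (h * ι m)) := by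
    rw [Finset.mul_sum, Finset.mul_sum]
    refine Finset.sum_congr rfl fun m _ => ?_
    rw [sum_conj_mul hKX θ η e, Chars.irr_inv]
  have e2 : (deg θ : ℂ) * ∑ k : K, ∑ m : K, (η : X → ℂ) (ι k * (h * ι m) * (ι k)⁻¹ * (h * ι m)⁻¹) =
      (Nat.card K : ℂ) * (Nat.card K : ℂ) := by
    rw [Finset.mul_sum]
    conv_rhs => arg 2; rw [← sum_conj_mul_self θ]
    rw [Finset.mul_sum]
    refine Finset.sum_congr rfl fun k _ => ?_
    have hk : (h⁻¹ : X) * ι k * h ∈ ι.range := by
      refine ⟨⟨(h : G)⁻¹ * k * (h : G), ?_⟩, Subtype.ext (by simp [ι])⟩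
      simpa using hn.mem (X.inv_mem h.2) k.2
    obtain ⟨k', hk'⟩ := hk
    have : ∀ m : K, (η : X → ℂ) (ι k * (h * ι m) * (ι k)⁻¹ * (h * ι m)⁻¹) =
        (η : X → ℂ) (ι m * (ι k)⁻¹ * (ι m)⁻¹ * (h⁻¹ * ι k * h)) := fun m => by
      rw [← hcl (ι m * (ι k)⁻¹ * (ι m)⁻¹ * (h⁻¹ * ι k * h)) (ι k * h)]
      congr 1
      simp only [mul_assoc, mul_inv_rev, mul_inv_cancel_left, inv_mul_cancel_left,
        mul_inv_cancel, mul_one]
    rw [Finset.sum_congr rfl fun m _ => this m, sum_conj_mul hKX θ η e, ← hk']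
    congr 1
    rw [Chars.irr_inv, mul_comm]
    have h1 : (η : X → ℂ) (ι k) = (θ : K → ℂ) k := congrFun e k
    have h2 : (η : X → ℂ) (ι k') = (η : X → ℂ) (ι k) := by
      rw [hk', ← hcl (h⁻¹ * ι k * h) h]
      simp [mul_assoc]
    rw [h2, h1]
  rw [Finset.sum_comm] at e1
  exact mul_left_cancel₀ hK (e1.symm.trans e2)

/-- Cyclic extensions are abelian modulo the kernel. -/
theorem comm_mem_of_gen (hn : NormBy X K) {h : G} (hh : h ∈ X)
    (hgen : X ≤ K ⊔ Subgroup.zpowers h) : ∀ a ∈ X, ∀ b ∈ X, a * b * a⁻¹ * b⁻¹ ∈ K := by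
  intro a ha b hb
  have hsub : Subgroup.zpowers h ≤ Subgroup.normalizer (K : Set G) :=
    Subgroup.zpowers_le.2 (Subgroup.mem_normalizer_iff.2 (hn h hh))
  have hdec : ∀ x ∈ X, ∃ i : ℤ, (h ^ i)⁻¹ * x ∈ K := by
    intro x hx
    have hx' := hgen hx
    rw [sup_comm, ← SetLike.mem_coe, Subgroup.coe_mul_of_left_le_normalizer_right _ _ hsub] at hx'
    obtain ⟨u, ⟨i, rfl⟩, k, hk, rfl⟩ := hx'
    exact ⟨i, by simpa using hk⟩
  obtain ⟨i, hi⟩ := hdec a ha
  obtain ⟨j, hj⟩ := hdec b hb
  haveI := hn.normal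
  have key : ∀ x (hx : x ∈ X), ∀ i : ℤ, (h ^ i)⁻¹ * x ∈ K →
      QuotientGroup.mk' (K.subgroupOf X) ⟨x, hx⟩ =
        QuotientGroup.mk' (K.subgroupOf X) ⟨h, hh⟩ ^ i := by
    intro x hx i hxi
    rw [← map_zpow]
    refine ((QuotientGroup.eq).2 ?_).symm
    simpa [Subgroup.mem_subgroupOf] using hxi
  have h1 : QuotientGroup.mk' (K.subgroupOf X)
      (⟨a, ha⟩ * ⟨b, hb⟩ * (⟨a, ha⟩ : X)⁻¹ * (⟨b, hb⟩ : X)⁻¹) = 1 := by
    rw [map_mul, map_mul, map_mul, map_inv, map_inv, key a ha i hi, key b hb j hj,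
      ← zpow_add, add_comm, zpow_add, mul_inv_cancel_right, mul_inv_cancel]
  exact Subgroup.mem_subgroupOf.1 ((QuotientGroup.eq_one_iff _).1 h1)

/-- The formula. -/
theorem count_formula (hKH : K ≤ H) (hn : NormBy H K) {θ : IrrCharacter K}
    (hinv : H ≤ stabGroup θ) :
    Nat.card {χ : IrrCharacter H // Over hKH θ χ} * Nat.card H * Nat.card K =
      Nat.card (pairs H θ) := by
  classical
  haveI := Fintype.ofFinite H
  haveI := Fintype.ofFinite K
  have hK : (Nat.card K : ℂ) ≠ 0 := Nat.cast_ne_zero.2 Nat.card_pos.ne'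
  have hd : (deg θ : ℂ) ≠ 0 := Nat.cast_ne_zero.2 (deg_pos θ).ne'
  set ι := Subgroup.inclusion hKH with hι
  let A : H → ℂ := fun h => ∑ χ : IrrCharacter H,
    if Over hKH θ χ then (χ : H → ℂ) h * conj ((χ : H → ℂ) h) else 0
  have htot : ∑ h, A h = (Nat.card {χ : IrrCharacter H // Over hKH θ χ} : ℂ) * Nat.card H := by
    simp only [A]
    rw [Finset.sum_comm, Finset.sum_congr rfl fun χ _ =>
      show (∑ h, if Over hKH θ χ then (χ : H → ℂ) h * conj ((χ : H → ℂ) h) else 0) =
        if Over hKH θ χ then (Nat.card H : ℂ) else 0 by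
        split_ifs
        · exact sum_conj_mul_self χ
        · simp, ← Finset.sum_filter, Finset.sum_const, nsmul_eq_mul, ← Fintype.card_subtype,
      Nat.card_eq_fintype_card (α := {χ : IrrCharacter H // Over hKH θ χ})]
  -- projection to the characters over `θ`
  have hproj : ∀ (χ : IrrCharacter H) (h : H),
      (deg θ : ℂ) * ∑ k : K, conj ((θ : K → ℂ) k) * (χ : H → ℂ) (h * ι k) =
        if Over hKH θ χ then (Nat.card K : ℂ) * (χ : H → ℂ) h else 0 := by
    intro χ h
    obtain ⟨n, ρ, hρ, hχ⟩ := χ.2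
    haveI := hρ
    haveI := Chars.nontrivial_of_isIrreducible ρ
    set T : Module.End ℂ (Fin n → ℂ) := ∑ k : K, conj ((θ : K → ℂ) k) • ρ (ι k) with hT
    obtain ⟨c, hc⟩ := Clifford.schur_scalar ρ T fun g => by
      rw [hT, Finset.sum_mul, Finset.mul_sum]
      symm
      refine Fintype.sum_equiv (Glauberman.conjEquiv (hn g g.2)).toEquiv _ _ fun k => ?_
      show ρ g * (conj ((θ : K → ℂ) k) • ρ (ι k)) =
        conj ((θ : K → ℂ) _) • ρ (ι (Glauberman.conjEquiv (hn g g.2) k)) * ρ g
      rw [show (θ : K → ℂ) ((Glauberman.conjEquiv (hn g g.2)).toEquiv k) = (θ : K → ℂ) k from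
        (hinv g.2).2 k _ rfl, mul_smul_comm, smul_mul_assoc, ← map_mul, ← map_mul]
      congr 2
      exact Subtype.ext (by simp [ι])
    have htr : c * (n : ℂ) = (Nat.card K : ℂ) *
        (charMult (resSub hKH (χ : H → ℂ)) (θ : K → ℂ) : ℂ) := by
      have h1 := congrArg (LinearMap.trace ℂ _) hc
      rw [hT, map_sum, map_smul, LinearMap.trace_one, Module.finrank_fin_fun, smul_eq_mul] at h1
      rw [← h1, ← Glauberman.charMult_spec (isCharacter_resSub hKH (Chars.irr_isCharacter χ))
        (Chars.irr_isCharacter θ), classInner, mul_inv_cancel_left₀ hK]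
      refine Finset.sum_congr rfl fun k _ => ?_
      rw [map_smul, smul_eq_mul, mul_comm, Glauberman.resSub_apply, ← hχ]
      rfl
    have hn0 : (n : ℂ) = (deg χ : ℂ) := by
      rw [← deg_spec, ← hχ, Representation.char_one, Module.finrank_fin_fun]
    have hsum : ∑ k : K, conj ((θ : K → ℂ) k) * (χ : H → ℂ) (h * ι k) = c * (χ : H → ℂ) h := by
      have h1 := congrArg (fun Z => LinearMap.trace ℂ _ (ρ h * Z)) hc
      simp only [hT, Finset.mul_sum, map_sum, mul_smul_comm, mul_one, map_smul, smul_eq_mul,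
        ← map_mul ρ] at h1
      rw [← hχ]
      exact h1
    rw [hsum]
    by_cases ho : Over hKH θ χ
    · rw [if_pos ho]
      rw [hn0, deg_eq_mul hKH hn hinv ho, Nat.cast_mul] at htr
      have hm : (charMult (resSub hKH (χ : H → ℂ)) (θ : K → ℂ) : ℂ) ≠ 0 := Nat.cast_ne_zero.2 ho
      have h2 : c * (deg θ : ℂ) = Nat.card K := mul_right_cancel₀ hm (by rw [← htr]; ring)
      rw [← mul_assoc, mul_comm (deg θ : ℂ), h2]
    · rw [if_neg ho]
      have h0 : charMult (resSub hKH (χ : H → ℂ)) (θ : K → ℂ) = 0 := not_not.1 ho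
      rw [h0, Nat.cast_zero, mul_zero, mul_eq_zero, hn0, Nat.cast_eq_zero] at htr
      rw [htr.resolve_right (deg_pos χ).ne']
      simp
  let cm : H → Finset H := fun h => Finset.univ.filter fun g => ⁅(g : G), (h : G)⁆ ∈ K
  -- first value
  have hA : ∀ h : H, (Nat.card K : ℂ) * A h = (deg θ : ℂ) * ∑ g ∈ cm h,
      conj (extendByZero K (θ : K → ℂ) ((h : G)⁻¹ * (g * h * (g : G)⁻¹))) := by
    intro h
    have h1 : (Nat.card K : ℂ) * A h = (deg θ : ℂ) * ∑ k : K, conj ((θ : K → ℂ) k) *
        ∑ χ : IrrCharacter H, (χ : H → ℂ) (h * ι k) * conj ((χ : H → ℂ) h) := by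
      simp only [A, Finset.mul_sum]
      rw [Finset.sum_comm]
      refine Finset.sum_congr rfl fun χ _ => ?_
      have := congrArg (fun z => z * conj ((χ : H → ℂ) h)) (hproj χ h)
      simp only [Finset.mul_sum, Finset.sum_mul, mul_assoc, ite_mul, zero_mul] at this
      rw [this, mul_ite, mul_zero]
    have hstab : Nat.card (Subgroup.centralizer ({h} : Set H)) =
        (Finset.univ.filter fun g : H => g * h * g⁻¹ = h).card := by
      rw [← Fintype.card_subtype, ← Nat.card_eq_fintype_card]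
      exact Nat.card_congr (Equiv.subtypeEquivRight fun g => by
        rw [Subgroup.mem_centralizer_singleton_iff, mul_inv_eq_iff_eq_mul])
    have hcol : ∀ k : K, ∑ χ : IrrCharacter H, (χ : H → ℂ) (h * ι k) * conj ((χ : H → ℂ) h) =
        ((Finset.univ.filter fun g : H => g * h * g⁻¹ = h * ι k).card : ℂ) := by
      intro k
      by_cases hc : IsConj h (h * ι k)
      · obtain ⟨g₀, hg₀⟩ := isConj_iff.1 hc
        refine (Chars.column_orthogonality_of_isConj hc.symm).trans ?_
        rw [Chars.card_centralizer_eq_of_isConj hc.symm, hstab]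
        congr 1
        refine Finset.card_equiv (Equiv.mulLeft g₀) fun g => ?_
        simp only [Finset.mem_filter, Finset.mem_univ, true_and, Equiv.coe_mulLeft]
        rw [← hg₀, show g₀ * g * h * (g₀ * g)⁻¹ = g₀ * (g * h * g⁻¹) * g₀⁻¹ by group,
          mul_left_inj, mul_right_inj]
      · refine (Chars.column_orthogonality_of_not_isConj fun h' => hc h'.symm).trans ?_
        rw [Finset.card_eq_zero.2 (Finset.filter_eq_empty_iff.2 fun g _ e =>
          hc (isConj_iff.2 ⟨g, e⟩)), Nat.cast_zero]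
    rw [h1]
    congr 1
    simp only [hcol, Finset.card_eq_sum_ones, Nat.cast_sum, Nat.cast_one, Finset.mul_sum, mul_one]
    rw [Finset.sum_sigma']
    refine Finset.sum_bij' (fun x _ => x.2)
      (fun g hg => ⟨⟨(h : G)⁻¹ * (g * h * (g : G)⁻¹), ?_⟩, g⟩) ?_ ?_ ?_ ?_ ?_
    · have := hn.mem (H.inv_mem h.2) (Finset.mem_filter.1 hg).2
      simpa [commutatorElement_def, mul_assoc] using this
    · rintro ⟨k, g⟩ hg
      have e := congrArg Subtype.val (Finset.mem_filter.1 (Finset.mem_sigma.1 hg).2).2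
      refine Finset.mem_filter.2 ⟨Finset.mem_univ _, ?_⟩
      rw [commutatorElement_def]
      simp only [ι, Subgroup.coe_mul, Subgroup.coe_inv, Subgroup.coe_inclusion] at e
      rw [e]
      exact hn.mem h.2 k.2
    · intro g hg
      refine Finset.mem_sigma.2 ⟨Finset.mem_univ _, Finset.mem_filter.2 ⟨Finset.mem_univ _, ?_⟩⟩
      exact Subtype.ext (by simp [ι])
    · rintro ⟨k, g⟩ hg
      have e := congrArg Subtype.val (Finset.mem_filter.1 (Finset.mem_sigma.1 hg).2).2
      simp only [ι, Subgroup.coe_mul, Subgroup.coe_inv, Subgroup.coe_inclusion] at e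
      refine Sigma.ext (Subtype.ext ?_) HEq.rfl
      show (h : G)⁻¹ * _ = _
      rw [e, inv_mul_cancel_left]
    · exact fun _ _ => rfl
    · rintro ⟨k, g⟩ hg
      have e := congrArg Subtype.val (Finset.mem_filter.1 (Finset.mem_sigma.1 hg).2).2
      simp only [ι, Subgroup.coe_mul, Subgroup.coe_inv, Subgroup.coe_inclusion] at e
      rw [show (h : G)⁻¹ * ((g : G) * h * (g : G)⁻¹) = k by rw [e, inv_mul_cancel_left],
        Chars.extendByZero_coe]
  let ind : H → ℂ := fun h => if Good H θ h then ((cm h).card : ℂ) else 0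
  have hpairs : (Nat.card (pairs H θ) : ℂ) = ∑ h, ind h := by
    rw [Nat.card_eq_fintype_card, Fintype.card_ofFinset]
    simp only [ind, cm, Finset.card_eq_sum_ones, Nat.cast_sum, Nat.cast_one]
    rw [Finset.sum_congr (s₁ := (Finset.univ : Finset H)) rfl fun (h : H) _ =>
      show (if Good H θ (h : G) then ∑ _g ∈ Finset.univ.filter
          (fun g : H => ⁅(g : G), (h : G)⁆ ∈ K), (1 : ℂ) else 0) =
        ∑ g : H, if ⁅(g : G), (h : G)⁆ ∈ K ∧ Good H θ (h : G) then (1 : ℂ) else 0 by
        by_cases hg : Good H θ (h : G)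
        · simp [hg, Finset.sum_filter]
        · simp [hg]]
    rw [Finset.sum_comm, ← Fintype.sum_prod_type', Finset.sum_filter]
    exact Finset.sum_congr rfl fun x _ => if_congr Iff.rfl rfl rfl
  -- coset sums
  have hcoset : ∀ h : H, ∑ k : K, (Nat.card K : ℂ) * A (h * ι k) = ∑ k : K, ind (h * ι k) := by
    intro h
    set X := K ⊔ Subgroup.zpowers (h : G) with hX
    have hKX : K ≤ X := le_sup_left
    have hhX : (h : G) ∈ X := Subgroup.mem_sup_right (Subgroup.mem_zpowers _)
    have hXH : X ≤ H := sup_le hKH (Subgroup.zpowers_le.2 h.2)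
    have hnX := hn.mono hXH
    obtain ⟨_, η, hη⟩ := ext_of_gen hKX hnX (hXH.trans hinv) hhX le_rfl
    have hcl := Chars.irr_isClassFunction η
    have hcmk : ∀ k : K, cm (h * ι k) = cm h := by
      intro k
      refine Finset.filter_congr fun g _ => ?_
      have e : ⁅(g : G), ((h * ι k : H) : G)⁆ =
          ⁅(g : G), (h : G)⁆ * ((h : G) * ⁅(g : G), (k : G)⁆ * (h : G)⁻¹) := by
        simp only [commutatorElement_def, ι, Subgroup.coe_mul, Subgroup.coe_inclusion]
        group
      have hk : (h : G) * ⁅(g : G), (k : G)⁆ * (h : G)⁻¹ ∈ K := by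
        refine hn.mem h.2 ?_
        rw [commutatorElement_def]
        exact K.mul_mem (hn.mem g.2 k.2) (K.inv_mem k.2)
      rw [e, K.mul_mem_cancel_right hk]
    have hXk : ∀ k : K, K ⊔ Subgroup.zpowers ((h * ι k : H) : G) = X := by
      intro k
      refine le_antisymm (sup_le hKX (Subgroup.zpowers_le.2 (X.mul_mem hhX (hKX k.2))))
        (sup_le le_sup_left (Subgroup.zpowers_le.2 ?_))
      have := (K ⊔ Subgroup.zpowers ((h * ι k : H) : G)).mul_mem
        (Subgroup.mem_sup_right (Subgroup.mem_zpowers ((h * ι k : H) : G)))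
        (Subgroup.mem_sup_left (K.inv_mem k.2))
      simpa [ι] using this
    have hgood : ∀ k : K, Good H θ ((h * ι k : H) : G) ↔ Good H θ (h : G) := by
      intro k
      unfold Good
      rw [hXk k]
      refine forall₂_congr fun g hg => ?_
      have h1 : ⁅g, ((h * ι k : H) : G)⁆ ∈ K ↔ ⁅g, (h : G)⁆ ∈ K := by
        have := Finset.ext_iff.1 (hcmk k) ⟨g, hg⟩
        simpa [cm] using this
      rw [h1]
    have hgn : ∀ g ∈ cm h, Normalises ((g : H) : G) X := by
      intro g hg
      refine Glauberman.normalises_of_mem fun x hx => ?_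
      have hle : X ≤ X.comap (MulAut.conj (g : G)).toMonoidHom := by
        refine sup_le (fun k hk => hKX ?_) (Subgroup.zpowers_le.2 ?_)
        · exact hn.mem g.2 hk
        · show (g : G) * h * (g : G)⁻¹ ∈ X
          have := X.mul_mem (hKX (Finset.mem_filter.1 hg).2) hhX
          simpa [commutatorElement_def, mul_assoc] using this
      exact hle hx
    have hconj : ∀ g ∈ cm h, ∃ η' : IrrCharacter X, IsExt hKX θ η' ∧
        ∀ x x' : X, (x' : G) = (g : H) * x * ((g : H) : G)⁻¹ → (η' : X → ℂ) x = (η : X → ℂ) x' := by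
      intro g hg
      obtain ⟨η', hη'⟩ := exists_conj ((hgn g hg).inv) η
      have hx : ∀ x x' : X, (x' : G) = (g : H) * x * ((g : H) : G)⁻¹ →
          (η' : X → ℂ) x = (η : X → ℂ) x' := fun x x' e => hη' x' x (by rw [e]; group)
      refine ⟨η', funext fun k => ?_, hx⟩
      let k' := Glauberman.conjEquiv (hn g g.2) k
      exact (hx ⟨k, hKX k.2⟩ ⟨k', hKX k'.2⟩ rfl).trans
        ((congrFun hη k').trans ((hinv g.2).2 k k' rfl))
    let cj : H → G → ℂ := fun g x => extendByZero X (η : X → ℂ) ((g : G) * x * (g : G)⁻¹)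
    have hcjmem : ∀ g ∈ cm h, ∀ x ∈ X, ((g : H) : G) * x * ((g : H) : G)⁻¹ ∈ X :=
      fun g hg x hx => (hgn g hg x).1 hx
    -- second value
    have hA2 : ∀ k : K, (Nat.card K : ℂ) * A (h * ι k) = ∑ g ∈ cm h,
        conj (cj g ((h * ι k : H) : G)) *
          (η : X → ℂ) ⟨(h * ι k : H), X.mul_mem hhX (hKX k.2)⟩ := by
      intro k
      rw [hA, hcmk]
      set w := h * ι k with hw
      have hwX : (w : G) ∈ X := X.mul_mem hhX (hKX k.2)
      let W : X := ⟨w, hwX⟩
      have hmem : ∀ g ∈ cm h, ∀ m : K, g * ι m ∈ cm h := by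
        intro g hg m
        refine Finset.mem_filter.2 ⟨Finset.mem_univ _, ?_⟩
        have e : ⁅((g * ι m : H) : G), (h : G)⁆ =
            ((g : G) * ⁅(m : G), (h : G)⁆ * (g : G)⁻¹) * ⁅(g : G), (h : G)⁆ := by
          simp only [commutatorElement_def, ι, Subgroup.coe_mul, Subgroup.coe_inclusion]
          group
        rw [e]
        refine K.mul_mem (hn.mem g.2 ?_) (Finset.mem_filter.1 hg).2
        rw [commutatorElement_def, mul_assoc, mul_assoc]
        refine K.mul_mem m.2 ?_
        have := hn.mem h.2 (K.inv_mem m.2)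
        simpa [mul_assoc] using this
      let f : H → ℂ := fun g => extendByZero K (θ : K → ℂ) ((w : G)⁻¹ * (g * w * (g : G)⁻¹))
      have hfsum : ∀ g ∈ cm h, (deg θ : ℂ) * ∑ m : K, f (g * ι m) =
          (Nat.card K : ℂ) * (cj g w * conj ((η : X → ℂ) W)) := by
        intro g hg
        obtain ⟨η', he', hx⟩ := hconj g hg
        let v : X := ⟨(g : G)⁻¹ * (w : G)⁻¹ * g, by
          have := ((hgn g hg).inv (w : G)⁻¹).1 (X.inv_mem hwX)
          simpa using this⟩
        have hval : ∀ m : K, f (g * ι m) = (η' : X → ℂ)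
            (Subgroup.inclusion hKX m * W * (Subgroup.inclusion hKX m)⁻¹ * v) := by
          intro m
          have hkm : (w : G)⁻¹ * (((g * ι m : H) : G) * w * ((g * ι m : H) : G)⁻¹) ∈ K := by
            have h2 : ⁅((g * ι m : H) : G), (w : G)⁆ ∈ K := by
              have h4 : g * ι m ∈ cm w := by rw [hw, hcmk k]; exact hmem g hg m
              exact (Finset.mem_filter.1 h4).2
            have h3 := hn.mem (H.inv_mem w.2) h2
            simpa [commutatorElement_def, mul_assoc] using h3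
          show extendByZero K (θ : K → ℂ) _ = _
          rw [Chars.extendByZero_of_mem _ hkm]
          refine Eq.trans ?_ (hx _ (⟨_, hcjmem g hg _ (X.mul_mem (X.mul_mem
            (X.mul_mem (hKX m.2) hwX) (X.inv_mem (hKX m.2))) v.2)⟩ : X) rfl).symm
          rw [← congrFun hη ⟨_, hkm⟩]
          rw [Glauberman.resSub_apply, ← hcl ⟨(w : G)⁻¹ * (((g * ι m : H) : G) * w *
            ((g * ι m : H) : G)⁻¹), hKX hkm⟩ W]
          refine congrArg (η : X → ℂ) (Subtype.ext ?_)
          simp [W, v, ι, mul_assoc]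
        rw [Finset.sum_congr rfl fun m _ => hval m, sum_conj_mul hKX θ η' he',
          hx W ⟨_, hcjmem g hg _ hwX⟩ rfl, hx v ⟨(w : G)⁻¹, X.inv_mem hwX⟩ (by simp [v, mul_assoc])]
        congr 2
        · exact (Chars.extendByZero_of_mem _ _).symm
        · exact Chars.irr_inv η W
      have htrans : ∀ m : K, ∑ g ∈ cm h, f (g * ι m) = ∑ g ∈ cm h, f g := fun m =>
        Finset.sum_bij' (fun g _ => g * ι m) (fun g _ => g * ι m⁻¹) (fun g hg => hmem g hg m)
          (fun g hg => hmem g hg m⁻¹) (fun g _ => by rw [map_inv, mul_inv_cancel_right])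
          (fun g _ => by rw [map_inv, inv_mul_cancel_right]) fun g _ => rfl
      have h2 : (deg θ : ℂ) * ∑ g ∈ cm h, f g = ∑ g ∈ cm h, cj g w * conj ((η : X → ℂ) W) := by
        refine mul_left_cancel₀ hK ?_
        rw [Finset.mul_sum (a := (Nat.card K : ℂ)) (f := fun g => cj g w * conj ((η : X → ℂ) W)),
          ← Finset.sum_congr rfl hfsum, ← Finset.mul_sum, Finset.sum_comm,
          Finset.sum_congr rfl fun m _ => htrans m, Finset.sum_const, Finset.card_univ,
          Fintype.card_eq_nat_card, nsmul_eq_mul]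
        ring
      have h3 := congrArg conj h2
      simp only [map_mul, map_sum, Complex.conj_natCast, Complex.conj_conj] at h3
      exact h3
    rw [Finset.sum_congr rfl fun k _ => hA2 k, Finset.sum_comm]
    simp only [ind, hgood, hcmk]
    by_cases hgo : Good H θ (h : G)
    · simp only [if_pos hgo, Finset.sum_const, Finset.card_univ, nsmul_eq_mul]
      rw [Fintype.card_eq_nat_card, Finset.sum_congr rfl fun g hg => ?_, Finset.sum_const,
        nsmul_eq_mul, mul_comm]
      · have := coset_norm hKX hnX θ η hη ⟨h, hhX⟩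
        rw [← this]
        refine Finset.sum_congr rfl fun k _ => ?_
        have e2 : cj g ((h * ι k : H) : G) = (η : X → ℂ) ⟨(h * ι k : H), X.mul_mem hhX (hKX k.2)⟩ := by
          have hgc : ⁅((g : H) : G), (h : G)⁆ ∈ K := (Finset.mem_filter.1 hg).2
          obtain ⟨hle, ζ, hζ⟩ := hgo g g.2 hgc
          have hXY : X ≤ K ⊔ Subgroup.zpowers (h : G) ⊔ Subgroup.zpowers ((g : H) : G) :=
            le_sup_left
          let ζX : IrrCharacter X := ⟨_, isIrr_of_resSub hKX
            (isCharacter_resSub hXY (Chars.irr_isCharacter ζ)) θ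
            ((Glauberman.resSub_resSub hXY hKX _).trans hζ)⟩
          have hζX : IsExt hKX θ ζX := (Glauberman.resSub_resSub hXY hKX _).trans hζ
          haveI := hnX.normal
          obtain ⟨l, hl0, hl⟩ := Glauberman.exists_lin_mul_eq hKX
            (comm_mem_of_gen hnX hhX le_rfl) θ ζX η hζX.over hη.over
          show extendByZero X (η : X → ℂ) _ = _
          have hwX : ((h * ι k : H) : G) ∈ X := X.mul_mem hhX (hKX k.2)
          rw [Chars.extendByZero_of_mem _ (hcjmem g hg _ hwX), ← hl]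
          set a : X := ⟨_, hcjmem g hg _ hwX⟩
          set b : X := ⟨((h * ι k : H) : G), X.mul_mem hhX (hKX k.2)⟩
          have hab : (a : G) * (b : G)⁻¹ ∈ K := by
            have := (Finset.mem_filter.1 ((hcmk k).symm ▸ hg)).2
            simpa [commutatorElement_def, a, b] using this
          have hl2 : (l : X →* ℂˣ) a = (l : X →* ℂˣ) b := by
            rw [← mul_inv_eq_one, ← map_inv, ← map_mul]
            exact hl0 _ hab
          show resSub hXY ζ.1 a * _ = resSub hXY ζ.1 b * _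
          rw [hl2]
          congr 1
          exact (Glauberman.isConjBy_self_of_mem (Chars.irr_isClassFunction ζ)
            (Subgroup.mem_sup_right (Subgroup.mem_zpowers ((g : H) : G)))) ⟨b, hXY b.2⟩
              ⟨a, hXY a.2⟩ rfl
        rw [e2, mul_comm]
        rfl
    · simp only [if_neg hgo, Finset.sum_const_zero]
      rw [Finset.sum_comm]
      refine Finset.sum_eq_zero fun k _ => ?_
      rw [← Finset.sum_mul, ← map_sum]
      suffices ∑ g ∈ cm h, cj g ((h * ι k : H) : G) = 0 by rw [this, map_zero, zero_mul]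
      simp only [Good, not_forall] at hgo
      obtain ⟨g₁, hg₁, hg₁c, hne⟩ := hgo
      let g₁' : H := ⟨g₁, hg₁⟩
      have hg₁m : g₁' ∈ cm h := Finset.mem_filter.2 ⟨Finset.mem_univ _, hg₁c⟩
      obtain ⟨η₁, he₁, hx₁⟩ := hconj g₁' hg₁m
      haveI := hnX.normal
      obtain ⟨l, hl0, hl⟩ := Glauberman.exists_lin_mul_eq hKX (comm_mem_of_gen hnX hhX le_rfl) θ η η₁
        hη.over he₁.over
      let Hh : X := ⟨h, hhX⟩
      have hl1 : (l : X →* ℂˣ) Hh ≠ 1 := by
        intro hl1
        apply hne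
        have hker : ∀ x : X, (l : X →* ℂˣ) x = 1 := by
          intro x
          have hle : X ≤ (l : X →* ℂˣ).ker.map X.subtype := by
            refine sup_le (fun m hm => ⟨⟨m, hKX hm⟩, hl0 _ hm, rfl⟩)
              (Subgroup.zpowers_le.2 ⟨Hh, hl1, rfl⟩)
          obtain ⟨y, hy, hyx⟩ := hle x.2
          rwa [Subtype.ext hyx] at hy
        have hηη : (η₁ : X → ℂ) = (η : X → ℂ) := by
          rw [← hl]; funext x; simp [hker x]
        set Y := X ⊔ Subgroup.zpowers g₁ with hY
        have hfix : Fixes g₁ η := by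
          refine ⟨hgn g₁' hg₁m, fun x x' e => ?_⟩
          rw [← hx₁ x x' e, hηη]
        have hnY : NormBy Y X := by
          intro y hy
          have hle : Y ≤ Glauberman.normGroup X := sup_le
            (fun x hx => (fixes_of_mem hx η).1) (Subgroup.zpowers_le.2 hfix.1)
          exact hle hy
        have hYs : Y ≤ stabGroup η := sup_le (le_stabGroup η) (Subgroup.zpowers_le.2 hfix)
        obtain ⟨hle, ζ, hζ⟩ := ext_of_gen (θ := η) le_sup_left hnY hYs
          (Subgroup.mem_sup_right (Subgroup.mem_zpowers g₁)) le_rfl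
        refine ⟨hKX.trans hle, ζ, ?_⟩
        rw [IsExt, ← Glauberman.resSub_resSub hle hKX, hζ]
        exact hη
      set x : G := ((h * ι k : H) : G) with hx
      have hxX : x ∈ X := X.mul_mem hhX (hKX k.2)
      have hcmul : ∀ g ∈ cm h, g * g₁' ∈ cm h := by
        intro g hg
        refine Finset.mem_filter.2 ⟨Finset.mem_univ _, ?_⟩
        have e : ⁅((g * g₁' : H) : G), (h : G)⁆ =
            ((g : G) * ⁅g₁, (h : G)⁆ * (g : G)⁻¹) * ⁅(g : G), (h : G)⁆ := by
          simp only [commutatorElement_def, g₁', Subgroup.coe_mul]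
          group
        rw [e]
        exact K.mul_mem (hn.mem g.2 hg₁c) (Finset.mem_filter.1 hg).2
      have hcinv : ∀ g ∈ cm h, g * g₁'⁻¹ ∈ cm h := by
        intro g hg
        refine Finset.mem_filter.2 ⟨Finset.mem_univ _, ?_⟩
        have e : ⁅((g * g₁'⁻¹ : H) : G), (h : G)⁆ =
            ((g : G) * (g₁⁻¹ * ⁅g₁, (h : G)⁆⁻¹ * g₁) * (g : G)⁻¹) * ⁅(g : G), (h : G)⁆ := by
          simp only [commutatorElement_def, g₁', Subgroup.coe_mul, Subgroup.coe_inv]
          group
        rw [e]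
        refine K.mul_mem (hn.mem g.2 ?_) (Finset.mem_filter.1 hg).2
        simpa using hn.mem (H.inv_mem hg₁) (K.inv_mem hg₁c)
      have hshift : ∀ g ∈ cm h, cj (g * g₁') x = ((l : X →* ℂˣ) Hh : ℂ) * cj g x := by
        intro g hg
        obtain ⟨η', he', hx'⟩ := hconj g hg
        obtain ⟨m, hm0, hm⟩ := Glauberman.exists_lin_mul_eq hKX (comm_mem_of_gen hnX hhX le_rfl) θ
          η η' hη.over he'.over
        let b : X := ⟨x, hxX⟩
        let a : X := ⟨g₁ * x * g₁⁻¹, hcjmem g₁' hg₁m x hxX⟩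
        have hab : (a : G) * (b : G)⁻¹ ∈ K := by
          have := (Finset.mem_filter.1 ((hcmk k).symm ▸ hg₁m)).2
          simpa [commutatorElement_def, a, b, g₁', x] using this
        have hma : (m : X →* ℂˣ) a = (m : X →* ℂˣ) b := by
          rw [← mul_inv_eq_one, ← map_inv, ← map_mul]
          exact hm0 _ hab
        have hlb : (l : X →* ℂˣ) b = (l : X →* ℂˣ) Hh := by
          rw [← mul_inv_eq_one, ← map_inv, ← map_mul]
          refine hl0 _ ?_
          simpa [b, Hh, x, ι] using hn.mem h.2 k.2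
        have e1 : cj (g * g₁') x = (η' : X → ℂ) a := by
          rw [hx' a ⟨_, hcjmem g hg _ a.2⟩ rfl]
          show extendByZero X (η : X → ℂ) _ = _
          rw [← Chars.extendByZero_coe X (η : X → ℂ)]
          simp [a, g₁', mul_assoc]
        have e2 : cj g x = (η' : X → ℂ) b := by
          rw [hx' b ⟨_, hcjmem g hg _ hxX⟩ rfl]
          exact Chars.extendByZero_coe X (η : X → ℂ) ⟨_, hcjmem g hg _ hxX⟩
        rw [e1, e2, ← hm]
        simp only [hma, ← hx₁ b a rfl, ← congrFun hl b, hlb]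
        ring
      have hs : ∑ g ∈ cm h, cj (g * g₁') x = ∑ g ∈ cm h, cj g x :=
        Finset.sum_bij' (fun g _ => g * g₁') (fun g _ => g * g₁'⁻¹) hcmul hcinv
          (fun g _ => mul_inv_cancel_right g g₁') (fun g _ => inv_mul_cancel_right g g₁')
          fun g _ => rfl
      rw [Finset.sum_congr rfl hshift, ← Finset.mul_sum] at hs
      by_contra hne0
      exact hl1 (Units.ext (mul_right_cancel₀ hne0 (hs.trans (one_mul _).symm)))
  have hfin : (Nat.card K : ℂ) * ∑ h, ∑ _k : K, A h = (Nat.card K : ℂ) * ∑ h, ind h := by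
    have e1 : ∀ F : H → ℂ, ∑ h, ∑ k : K, F (h * ι k) = (Nat.card K : ℂ) * ∑ h, F h := by
      intro F
      rw [Finset.sum_comm, Finset.sum_congr rfl fun k _ => Fintype.sum_equiv (Equiv.mulRight (ι k))
        (fun h => F (h * ι k)) F fun h => rfl, Finset.sum_const, Finset.card_univ, nsmul_eq_mul,
        Fintype.card_eq_nat_card]
    rw [← e1 ind, ← Finset.sum_congr rfl fun h _ => hcoset h, e1 fun h => (Nat.card K : ℂ) * A h]
    simp only [Finset.sum_const, Finset.card_univ, nsmul_eq_mul, Fintype.card_eq_nat_card]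
  have hfin' := mul_left_cancel₀ hK hfin
  simp only [Finset.sum_const, Finset.card_univ, nsmul_eq_mul, Fintype.card_eq_nat_card,
    ← Finset.mul_sum, htot, ← hpairs] at hfin'
  have : (Nat.card K : ℂ) * ((Nat.card {χ : IrrCharacter H // Over hKH θ χ} : ℂ) * Nat.card H) =
      (Nat.card (pairs H θ) : ℂ) := hfin'
  have h' : Nat.card K * (Nat.card {χ : IrrCharacter H // Over hKH θ χ} * Nat.card H) =
      Nat.card (pairs H θ) := by exact_mod_cast this
  rw [← h']
  ring

end Cfsg.Agent.Lib.RelMcKay
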