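import Cfsg.Agent.Lib.RelMcKay.Key

/-!
# Counting characters of degree prime to `p` through a normal subgroup
-/

set_option autoImplicit false
set_option maxHeartbeats 1000000

namespace Cfsg.Agent.Lib.RelMcKay

open Cfsg
open Cfsg.Agent.Lib
open Cfsg.Agent.Lib.Glauberman (IsInv IsConjBy resSub Normalises charMult isCharacter_resSub
  normGroup)
open scoped ComplexConjugate

variable {G : Type*} [Group G] [Finite G] {p : ℕ} [Fact p.Prime] {L K H S T : Subgroup G}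

/-- The number of characters of `H` of degree prime to `p` over `θ`. -/
noncomputable def count (p : ℕ) (H : Subgroup G) (θ : IrrCharacter K) : ℕ :=
  Nat.card {χ : IrrCharacter H // ¬ p ∣ deg χ ∧ ∃ h : K ≤ H, Over h θ χ}

theorem normBy_normGroup (H : Subgroup G) : NormBy (normGroup H) H := fun _ hg => hg

theorem le_normGroup_self (H : Subgroup G) : H ≤ normGroup H := fun _ hg => normalises_self hg

/-- No characters when the degree below is divisible by `p`. -/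
theorem count_eq_zero (hn : NormBy H K) {θ : IrrCharacter K} (hd : p ∣ deg θ) :
    count p H θ = 0 := by
  rw [count, Nat.card_eq_zero]
  exact Or.inl ⟨fun ⟨χ, hχ, h, o⟩ => hχ (hd.trans (ratio_dvd h hn o).1)⟩

/-- The Clifford correspondence. -/
theorem clifford (hKH : K ≤ H) (hn : NormBy H K) (θ : IrrCharacter K) :
    ∃ f : {ψ : IrrCharacter (H ⊓ stabGroup θ : Subgroup G) //
        Over (le_inf hKH (le_stabGroup θ)) θ ψ} → {χ : IrrCharacter H // Over hKH θ χ},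
      Function.Bijective f ∧ ∀ ψ, deg (f ψ).1 = (H ⊓ stabGroup θ).relIndex H * deg ψ.1 := by
  classical
  set T := H ⊓ stabGroup θ
  have hKT : K ≤ T := le_inf hKH (le_stabGroup θ)
  have hTH : T ≤ H := inf_le_left
  haveI := Fintype.ofFinite H
  haveI := Fintype.ofFinite T
  haveI := Fintype.ofFinite K
  haveI := Fintype.ofFinite (K.subgroupOf H)
  haveI := Fintype.ofFinite (T.subgroupOf H)
  haveI := hn.normal
  set θ' := Glauberman.pullSub hKH (θ : K → ℂ)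
  have hθ' : IsIrrCharacter (K.subgroupOf H) θ' := Glauberman.isIrr_pullSub hKH θ
  have hT : ∀ g : H, g ∈ T.subgroupOf H ↔ Clifford.conjFun g θ' = θ' := by
    intro g
    constructor
    · exact fun hg => funext fun x => hg.2.2 _ _ rfl
    · refine fun h => ⟨g.2, hn g g.2, fun x x' e => ?_⟩
      have := congrFun h ⟨⟨x, hKH x.2⟩, x.2⟩
      rw [show x' = ⟨(g : G) * x * (g : G)⁻¹, hn.mem g.2 x.2⟩ from Subtype.ext e]
      exact this
  have hNT : K.subgroupOf H ≤ T.subgroupOf H := fun x hx => hKT hx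
  let eT := Subgroup.subgroupOfEquivOfLe hTH
  have hpair : ∀ ψ : IrrCharacter T,
      classInner (Clifford.resTo hNT (fun x => (ψ : T → ℂ) (eT x))) θ' =
        (charMult (resSub hKT (ψ : T → ℂ)) (θ : K → ℂ) : ℂ) := by
    intro ψ
    rw [← Glauberman.charMult_spec (isCharacter_resSub hKT (Chars.irr_isCharacter ψ))
      (Chars.irr_isCharacter θ)]
    exact Clifford.classInner_comp_equiv (Subgroup.subgroupOfEquivOfLe hKH)
      (resSub hKT (ψ : T → ℂ)) (θ : K → ℂ)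
  have hpairH : ∀ χ : IrrCharacter H,
      classInner (Clifford.resFun (K.subgroupOf H) (χ : H → ℂ)) θ' =
        (charMult (resSub hKH (χ : H → ℂ)) (θ : K → ℂ) : ℂ) := fun χ =>
    Glauberman.classInner_pullSub hKH (Chars.irr_isCharacter χ) θ
  let P : {ψ : IrrCharacter T // Over hKT θ ψ} → (T.subgroupOf H → ℂ) := fun ψ x =>
    (ψ.1 : T → ℂ) (eT x)
  have hP : ∀ ψ, IsIrrCharacter (T.subgroupOf H) (P ψ) := fun ψ =>
    Clifford.isIrrCharacter_comp_equiv eT ψ.1.2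
  have hPθ : ∀ ψ, classInner (Clifford.resTo hNT (P ψ)) θ' ≠ 0 := fun ψ => by
    rw [hpair]
    exact Nat.cast_ne_zero.2 ψ.2
  have hI : ∀ ψ, IsIrrCharacter H (indFun (T.subgroupOf H) (P ψ)) := fun ψ =>
    Clifford.isIrrCharacter_indFun_inertia hθ' hT hNT (hP ψ) (hPθ ψ)
  have hfrob : ∀ ψ, classInner
      (Clifford.resFun (T.subgroupOf H) (indFun (T.subgroupOf H) (P ψ))) (P ψ) ≠ 0 := by
    intro ψ
    have h1 := Chars.classInner_indFun_left (T.subgroupOf H) (P ψ) _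
      (Chars.irr_isClassFunction ⟨_, hI ψ⟩)
    have h2 := Chars.classInner_irr_self ⟨_, hI ψ⟩
    rw [h1] at h2
    rw [← Chars.conj_classInner, map_ne_zero]
    exact ne_of_eq_of_ne h2 one_ne_zero
  have hcor := fun ψ => Clifford.clifford_induced hθ' hT hNT (hI ψ) (hP ψ) (hfrob ψ) (hPθ ψ)
  have hover : ∀ ψ, Over hKH θ ⟨_, hI ψ⟩ := by
    intro ψ h0
    refine hPθ ψ ?_
    rw [(hcor ψ).2.1, hpairH ⟨_, hI ψ⟩, h0, Nat.cast_zero]
  refine ⟨fun ψ => ⟨⟨_, hI ψ⟩, hover ψ⟩, ⟨fun ψ ψ' e => ?_, fun χ => ?_⟩, fun ψ => ?_⟩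
  · have e' : indFun (T.subgroupOf H) (P ψ) = indFun (T.subgroupOf H) (P ψ') :=
      congrArg (fun z : {χ : IrrCharacter H // Over hKH θ χ} => (z.1 : H → ℂ)) e
    have h' := (hcor ψ).2.2.2 _ (hP ψ') (by rw [e']; exact hfrob ψ') (hPθ ψ')
    refine Subtype.ext (Subtype.ext (funext fun t => ?_))
    obtain ⟨x, rfl⟩ := eT.surjective t
    exact (congrFun h' x).symm
  · obtain ⟨ψ, hψ, hψχ, hψθ⟩ := Clifford.exists_clifford_correspondent hθ' hT hNT χ.1.2
      (by rw [hpairH]; exact Nat.cast_ne_zero.2 χ.2)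
    have hψ₀ : IsIrrCharacter T (fun t => ψ (eT.symm t)) :=
      Clifford.isIrrCharacter_comp_equiv eT.symm hψ
    have hback : (fun x => ψ (eT.symm (eT x))) = ψ := by simp
    have ho : Over hKT θ ⟨_, hψ₀⟩ := by
      intro h0
      have := hpair ⟨_, hψ₀⟩
      change classInner (Clifford.resTo hNT (fun x => ψ (eT.symm (eT x)))) θ' = _ at this
      rw [hback, hψθ, hpairH, h0, Nat.cast_inj] at this
      exact χ.2 this
    refine ⟨⟨⟨_, hψ₀⟩, ho⟩, Subtype.ext (Subtype.ext ?_)⟩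
    show indFun (T.subgroupOf H) (fun x => ψ (eT.symm (eT x))) = _
    rw [hback]
    exact hψχ
  · have h1 : ((deg (⟨_, hI ψ⟩ : IrrCharacter H) : ℕ) : ℂ) =
        ((T.relIndex H * deg ψ.1 : ℕ) : ℂ) := by
      rw [← deg_spec, Nat.cast_mul, ← deg_spec ψ.1]
      show indFun (T.subgroupOf H) (P ψ) 1 = _
      rw [Chars.indFun_one_eq]
      show _ * (ψ.1 : T → ℂ) (eT 1) = _
      rw [map_one]
      rfl
    exact_mod_cast h1

/-- The inertia index divides the degree. -/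
theorem relIndex_dvd_deg (hKH : K ≤ H) (hn : NormBy H K) {θ : IrrCharacter K}
    {χ : IrrCharacter H} (o : Over hKH θ χ) : (H ⊓ stabGroup θ).relIndex H ∣ deg χ := by
  obtain ⟨f, hf, hdeg⟩ := clifford hKH hn θ
  obtain ⟨ψ, hψ⟩ := hf.2 ⟨χ, o⟩
  exact ⟨deg ψ.1, by rw [← hdeg, hψ]⟩

/-- Characters of the inertia group count the same. -/
theorem count_stab (hKH : K ≤ H) (hn : NormBy H K) (θ : IrrCharacter K)
    (hidx : ¬ p ∣ (H ⊓ stabGroup θ).relIndex H) :
    count p (H ⊓ stabGroup θ) θ = count p H θ := by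
  have hp : p.Prime := Fact.out
  obtain ⟨f, hf, hdeg⟩ := clifford hKH hn θ
  have hiff : ∀ ψ, (¬ p ∣ deg ψ.1 ↔ ¬ p ∣ deg (f ψ).1) := fun ψ => by
    rw [hdeg, hp.dvd_mul]
    tauto
  refine Nat.card_eq_of_bijective
    (fun ψ => ⟨(f ⟨ψ.1, ψ.2.2.2⟩).1, (hiff _).1 ψ.2.1, hKH, (f ⟨ψ.1, ψ.2.2.2⟩).2⟩)
    ⟨fun ψ ψ' e => ?_, fun χ => ?_⟩
  · have e' := Subtype.mk.inj e
    have := hf.1 (Subtype.ext e')
    exact Subtype.ext (Subtype.mk.inj this)
  · obtain ⟨ψ, hψ⟩ := hf.2 ⟨χ.1, χ.2.2.2⟩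
    refine ⟨⟨ψ.1, (hiff ψ).2 ?_, _, ψ.2⟩, Subtype.ext (show (f ψ).1 = χ.1 from congrArg Subtype.val hψ)⟩
    rw [hψ]
    exact χ.2.1

theorem card_mul_relIndex {A B : Subgroup G} (h : A ≤ B) :
    Nat.card A * A.relIndex B = Nat.card B := by
  rw [← Subgroup.relIndex_bot_left A, ← Subgroup.relIndex_bot_left B]
  exact Subgroup.relIndex_mul_relIndex ⊥ A B bot_le h

theorem card_eq_of_sylow {P Q : Subgroup G} (hP : P ≤ T) (hQ : Q ≤ T) (hPp : IsPGroup p P)
    (hQp : IsPGroup p Q) (hPi : ¬ p ∣ P.relIndex T) (hQi : ¬ p ∣ Q.relIndex T) :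
    Nat.card P = Nat.card Q := by
  let P₁ : Sylow p T := (hPp.of_equiv (Subgroup.subgroupOfEquivOfLe hP).symm).toSylow hPi
  let Q₁ : Sylow p T := (hQp.of_equiv (Subgroup.subgroupOfEquivOfLe hQ).symm).toSylow hQi
  rw [← Nat.card_congr (Subgroup.subgroupOfEquivOfLe hP).toEquiv,
    ← Nat.card_congr (Subgroup.subgroupOfEquivOfLe hQ).toEquiv]
  exact P₁.card_eq_multiplicity.trans Q₁.card_eq_multiplicity.symm

/-- A conjugation carrying one Sylow subgroup into another. -/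
theorem exists_sylow_conj {P Q : Subgroup G} (hP : P ≤ T) (hQ : Q ≤ T) (hPp : IsPGroup p P)
    (hQp : IsPGroup p Q) (hPi : ¬ p ∣ P.relIndex T) (hQi : ¬ p ∣ Q.relIndex T) :
    ∃ t ∈ T, ∀ x ∈ Q, t * x * t⁻¹ ∈ P := by
  let P₁ : Sylow p T := (hPp.of_equiv (Subgroup.subgroupOfEquivOfLe hP).symm).toSylow hPi
  let Q₁ : Sylow p T := (hQp.of_equiv (Subgroup.subgroupOfEquivOfLe hQ).symm).toSylow hQi
  obtain ⟨t, ht⟩ := MulAction.exists_smul_eq T Q₁ P₁
  refine ⟨t, t.2, fun x hx => ?_⟩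
  have hxQ : (⟨x, hQ hx⟩ : T) ∈ (Q₁ : Set T) := hx
  have h : t * ⟨x, hQ hx⟩ * t⁻¹ ∈ (P₁ : Set T) := by
    rw [← ht, Sylow.coe_smul]
    exact ⟨_, hxQ, rfl⟩
  exact h

/-- Candidates for constituents. -/
def Cand (p : ℕ) (S : Subgroup G) (hLK : L ≤ K) (ν : IrrCharacter L) (θ : IrrCharacter K) : Prop :=
  ¬ p ∣ deg θ ∧ S ≤ stabGroup θ ∧ Over hLK ν θ

/-- Counting through the constituents on a normal subgroup. -/
theorem fibre (hLK : L ≤ K) (hKH : K ≤ H) (hL : NormBy H L) (hK : NormBy H K) (hSH : S ≤ H)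
    (hS : IsPGroup p S) (hidx : ¬ p ∣ S.relIndex H) {ν : IrrCharacter L} (hν : H ≤ stabGroup ν) :
    count p H ν * Nat.card (H ⊓ normGroup S : Subgroup G) =
      ∑ᶠ θ : {θ : IrrCharacter K // Cand p S hLK ν θ},
        Nat.card (H ⊓ normGroup S ⊓ stabGroup θ.1 : Subgroup G) *
          count p (H ⊓ stabGroup θ.1) θ.1 := by
  classical
  have hp : p.Prime := Fact.out
  set N₀ := H ⊓ normGroup S
  let Θ := {θ : IrrCharacter K // Cand p S hLK ν θ}
  let X := {χ : IrrCharacter H // ¬ p ∣ deg χ ∧ ∃ h : L ≤ H, Over h ν χ}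
  haveI := Fintype.ofFinite Θ
  haveI := Fintype.ofFinite X
  rw [finsum_eq_sum_of_fintype]
  have hA : ∀ θ : Θ, count p (H ⊓ stabGroup θ.1) θ.1 =
      ∑ χ : X, if Over hKH θ.1 χ.1 then 1 else 0 := by
    intro θ
    rw [count_stab hKH hK θ.1 fun h => hidx (h.trans ?_)]
    · rw [Finset.sum_boole, Nat.cast_id, count, ← Fintype.card_subtype,
        ← Nat.card_eq_fintype_card]
      exact Nat.card_congr
        { toFun := fun χ => ⟨⟨χ.1, χ.2.1, _, θ.2.2.2.trans χ.2.2.2⟩, χ.2.2.2⟩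
          invFun := fun χ => ⟨χ.1.1, χ.1.2.1, hKH, χ.2⟩
          left_inv := fun _ => rfl
          right_inv := fun _ => rfl }
    · exact ⟨_, ((mul_comm _ _).trans
        (Subgroup.relIndex_mul_relIndex S _ H (le_inf hSH θ.2.2.1) inf_le_left)).symm⟩
  simp only [hA, Finset.mul_sum, mul_ite, mul_one, mul_zero]
  rw [Finset.sum_comm]
  suffices hχ : ∀ χ : X, ∑ θ : Θ, (if Over hKH θ.1 χ.1 then
      Nat.card (N₀ ⊓ stabGroup θ.1 : Subgroup G) else 0) = Nat.card N₀ by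
    rw [Finset.sum_congr rfl fun χ _ => hχ χ, Finset.sum_const, Finset.card_univ, smul_eq_mul,
      count, Nat.card_eq_fintype_card (α := X)]
  rintro ⟨χ, hχp, hLH, hχν⟩
  have hfixχ : ∀ g ∈ H, Normalises g H ∧ IsConjBy g (χ : H → ℂ) (χ : H → ℂ) := fun g hg =>
    fixes_of_mem hg χ
  -- existence
  obtain ⟨θ₁, hθ₁⟩ : ∃ θ₁, Over hKH θ₁ χ := Glauberman.exists_below hKH χ
  set T₁ := H ⊓ stabGroup θ₁
  have hT₁ : ¬ p ∣ T₁.relIndex H := fun h => hχp (h.trans (relIndex_dvd_deg hKH hK hθ₁))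
  obtain ⟨P₀⟩ := Sylow.nonempty (p := p) (G := T₁)
  set P := (P₀ : Subgroup T₁).map T₁.subtype
  have hPT : P ≤ T₁ := Subgroup.map_subtype_le _
  have hPp : IsPGroup p P := P₀.isPGroup'.map _
  have hPi : ¬ p ∣ P.relIndex H := by
    rw [← Subgroup.relIndex_mul_relIndex P T₁ H hPT inf_le_left, hp.dvd_mul, not_or]
    refine ⟨?_, hT₁⟩
    rw [Subgroup.relIndex, Subgroup.subgroupOf,
      Subgroup.comap_map_eq_self_of_injective T₁.subtype_injective]
    exact Sylow.not_dvd_index P₀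
  obtain ⟨g, hg, hgP⟩ := exists_sylow_conj hSH (hPT.trans inf_le_left) hS hPp hidx hPi
  obtain ⟨θ₀, hθ₀⟩ := exists_conj (hK g hg) θ₁
  have hθ₀χ : Over hKH θ₀ χ := Over.conj hθ₁ (hK g hg) (hfixχ g hg).1 hθ₀ (hfixχ g hg).2
  have hPS : ∀ x ∈ S, g⁻¹ * x * g ∈ P := by
    have hmap : P.map (MulAut.conj g).toMonoidHom = S := by
      refine Subgroup.eq_of_le_of_card_ge (fun _ ⟨x, hx, e⟩ => e ▸ hgP x hx) ?_
      rw [Subgroup.card_map_of_injective (MulAut.conj g).injective]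
      exact (card_eq_of_sylow hSH (hPT.trans inf_le_left) hS hPp hidx hPi).le
    intro x hx
    obtain ⟨y, hy, e⟩ := hmap.ge hx
    rw [← e]
    simpa [mul_assoc] using hy
  have hSθ₀ : S ≤ stabGroup θ₀ := by
    intro x hx
    have := Fixes.conj (hK g hg) hθ₀ (hPT (hPS x hx)).2
    simpa [mul_assoc, mem_stabGroup] using this
  have hθ₀C : Cand p S hLK ν θ₀ := ⟨fun h => hχp (h.trans (ratio_dvd hKH hK hθ₀χ).1), hSθ₀,
    over_down hLK hKH hL hν hθ₀χ hχν⟩
  -- one orbit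
  let ι : N₀ →* normGroup K := Subgroup.inclusion fun a ha => hK a ha.1
  letI : MulAction N₀ (IrrCharacter K) := MulAction.compHom _ ι
  have hspec : ∀ (a : N₀) (θ : IrrCharacter K),
      IsConjBy (a : G) (θ : K → ℂ) ((a • θ : IrrCharacter K) : K → ℂ) := fun a θ =>
    Glauberman.smul_irr_spec (ι a) θ
  have horb : ∀ θ : IrrCharacter K, θ ∈ MulAction.orbit N₀ θ₀ ↔
      Cand p S hLK ν θ ∧ Over hKH θ χ := by
    intro θ
    constructor
    · rintro ⟨a, rfl⟩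
      have ha := hspec a θ₀
      have hov := Over.conj hθ₀χ (hK a a.2.1) (hfixχ a a.2.1).1 ha (hfixχ a a.2.1).2
      refine ⟨⟨fun h => hχp (h.trans (ratio_dvd hKH hK hov).1), fun x hx => ?_,
        over_down hLK hKH hL hν hov hχν⟩, hov⟩
      have := Fixes.conj (hK a a.2.1) ha (hSθ₀ (((a.2.2).inv x).1 hx))
      simpa [mul_assoc, mem_stabGroup] using this
    · rintro ⟨hC, ho⟩
      obtain ⟨b, hb, hbc⟩ := Glauberman.exists_conj_of_constituent hKH
        (fun g hg x hx => hK.mem hg hx) χ θ₀ θ hθ₀χ ho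
      set Q := S.map (MulAut.conj b).toMonoidHom
      have hQT : Q ≤ H ⊓ stabGroup θ := by
        rintro _ ⟨x, hx, rfl⟩
        exact ⟨H.mul_mem (H.mul_mem hb (hSH hx)) (H.inv_mem hb),
          Fixes.conj (hK b hb) hbc (hSθ₀ hx)⟩
      have hST : S ≤ H ⊓ stabGroup θ := le_inf hSH hC.2.1
      have hcard : Nat.card Q = Nat.card S :=
        Subgroup.card_map_of_injective (MulAut.conj b).injective
      have hi : ¬ p ∣ S.relIndex (H ⊓ stabGroup θ) := fun h => hidx (h.trans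
        ⟨_, (Subgroup.relIndex_mul_relIndex S _ H hST inf_le_left).symm⟩)
      have hi' : ¬ p ∣ Q.relIndex (H ⊓ stabGroup θ) := by
        rwa [show Q.relIndex (H ⊓ stabGroup θ) = S.relIndex (H ⊓ stabGroup θ) from ?_]
        refine Nat.eq_of_mul_eq_mul_left (Nat.card_pos (α := S)) ?_
        conv_lhs => arg 1; rw [← hcard]
        rw [card_mul_relIndex hQT, card_mul_relIndex hST]
      obtain ⟨t, ht, htQ⟩ := exists_sylow_conj hST hQT hS (hS.map _) hi hi'
      refine ⟨⟨t * b, H.mul_mem ht.1 hb, Glauberman.normalises_of_mem fun x hx => ?_⟩, ?_⟩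
      · have := htQ _ ⟨x, hx, rfl⟩
        simpa [mul_assoc] using this
      · exact Glauberman.smul_irr_eq (ι _) (IsConjBy.trans (hK b hb) hbc ht.2.2)
  have hstab : ∀ θ : IrrCharacter K, Nat.card (MulAction.stabilizer N₀ θ) =
      Nat.card (N₀ ⊓ stabGroup θ : Subgroup G) := by
    intro θ
    rw [show MulAction.stabilizer N₀ θ = (N₀ ⊓ stabGroup θ).subgroupOf N₀ from ?_]
    · exact Nat.card_congr (Subgroup.subgroupOfEquivOfLe inf_le_left).toEquiv
    ext a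
    rw [MulAction.mem_stabilizer_iff, Subgroup.mem_subgroupOf]
    exact ⟨fun h => ⟨a.2, hK a a.2.1, by have := hspec a θ; rwa [h] at this⟩,
      fun h => Subtype.ext (IsConjBy.eq (hK a a.2.1) (hspec a θ) h.2.2)⟩
  haveI := Fintype.ofFinite (MulAction.orbit N₀ θ₀)
  rw [← Finset.sum_filter]
  have hsum : ∑ θ ∈ Finset.univ.filter (fun θ : Θ => Over hKH θ.1 χ),
      Nat.card (N₀ ⊓ stabGroup θ.1 : Subgroup G) =
      ∑ θ : MulAction.orbit N₀ θ₀, Nat.card (N₀ ⊓ stabGroup θ.1 : Subgroup G) :=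
    Finset.sum_bij' (fun θ hθ => ⟨θ.1, (horb θ.1).2 ⟨θ.2, (Finset.mem_filter.1 hθ).2⟩⟩)
      (fun θ _ => ⟨θ.1, ((horb θ.1).1 θ.2).1⟩) (fun _ _ => Finset.mem_univ _)
      (fun θ _ => Finset.mem_filter.2 ⟨Finset.mem_univ _, ((horb θ.1).1 θ.2).2⟩)
      (fun _ _ => rfl) (fun _ _ => rfl) (fun _ _ => rfl)
  rw [hsum]
  set d := Nat.card (MulAction.orbit N₀ θ₀)
  have hconst : ∀ θ : MulAction.orbit N₀ θ₀,
      d * Nat.card (N₀ ⊓ stabGroup θ.1 : Subgroup G) = Nat.card N₀ := by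
    intro θ
    rw [← hstab, show d = Nat.card (MulAction.orbit N₀ θ.1) by
      rw [MulAction.orbit_eq_iff.2 θ.2], ← Nat.card_prod]
    exact Nat.card_congr (MulAction.orbitProdStabilizerEquivGroup N₀ θ.1)
  refine Nat.eq_of_mul_eq_mul_left
    (haveI : Nonempty (MulAction.orbit N₀ θ₀) := ⟨⟨θ₀, MulAction.mem_orbit_self θ₀⟩⟩
     Nat.card_pos (α := MulAction.orbit N₀ θ₀)) ?_
  rw [Finset.mul_sum, Finset.sum_congr rfl fun θ _ => hconst θ, Finset.sum_const,
    Finset.card_univ, smul_eq_mul, ← Nat.card_eq_fintype_card]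

end Cfsg.Agent.Lib.RelMcKay
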