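import Cfsg.Agent.Lib.RelMcKay.Act

/-!
# Extendibility is preserved by the correspondence
-/

set_option autoImplicit false
set_option maxHeartbeats 1000000

namespace Cfsg.Agent.Lib.RelMcKay

open Cfsg
open Cfsg.Agent.Lib
open Cfsg.Agent.Lib.Glauberman (IsInv IsConjBy resSub Normalises charMult isCharacter_resSub)

variable {G : Type*} [Group G] [Finite G] {p : ℕ} [Fact p.Prime]

/-- Over a common constituent of an invariant character. -/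
theorem over_down {L C K : Subgroup G} (hLC : L ≤ C) (hCK : C ≤ K) (hKL : NormBy K L)
    {ν : IrrCharacter L} (hν : K ≤ stabGroup ν) {θ : IrrCharacter K} {θ₁ : IrrCharacter C}
    (o : Over hCK θ₁ θ) (o' : Over (hLC.trans hCK) ν θ) : Over hLC ν θ₁ := by
  obtain ⟨ν', hν'⟩ := Glauberman.exists_below hLC θ₁
  have h2 : Over (hLC.trans hCK) ν' θ := Over.trans (h := hLC) hν' o
  obtain ⟨g, hg, hgc⟩ := Glauberman.exists_conj_of_constituent (hLC.trans hCK)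
    (fun g hg x hx => hKL.mem hg hx) θ ν ν' o' h2
  rw [show ν = ν' from Subtype.ext (IsConjBy.eq (hν hg).1 (hν hg).2 hgc)]
  exact hν'

theorem comm_conj {Q : Subgroup G} {x c q : G} (h : x * c * x⁻¹ * c⁻¹ ∈ Q)
    (hq : c * (x * q * x⁻¹ * q⁻¹) * c⁻¹ ∈ Q) : x * (c * q) * x⁻¹ * (c * q)⁻¹ ∈ Q := by
  have := Q.mul_mem h hq
  simpa [mul_assoc] using this

theorem comm_left {Q : Subgroup G} {x c q : G} (h : x * (c * q) * x⁻¹ * (c * q)⁻¹ ∈ Q)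
    (hq : c * (x * q * x⁻¹ * q⁻¹) * c⁻¹ ∈ Q) : x * c * x⁻¹ * c⁻¹ ∈ Q := by
  have := Q.mul_mem h (Q.inv_mem hq)
  simpa [mul_assoc] using this

theorem fix_normalises {L K S C : Subgroup G} (hC : ∀ k, k ∈ C ↔ k ∈ K ∧ ∀ x ∈ S, x * k * x⁻¹ * k⁻¹ ∈ L)
    {g : G} (hK : Normalises g K) (hL : Normalises g L) (hS : Normalises g S) : Normalises g C := by
  refine Glauberman.normalises_of_mem fun c hc => ?_
  obtain ⟨hcK, hc'⟩ := (hC c).1 hc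
  refine (hC _).2 ⟨(hK c).1 hcK, fun x hx => ?_⟩
  have h1 : g⁻¹ * x * g ∈ S := by simpa using ((hS.inv) x).1 hx
  have := (hL _).1 (hc' _ h1)
  simpa [mul_assoc] using this

/-- The key statement. -/
theorem key (n : ℕ) : ∀ S R C K L : Subgroup G, Nat.card S + Nat.card R = n → IsPGroup p S →
    ¬ p ∣ Nat.card R → ∀ (hLK : L ≤ K), NormBy K L → NormBy S K → NormBy S L → NormBy R K →
    NormBy R L → NormBy R S → S ⊓ K ≤ L → ¬ p ∣ L.relIndex K → ∀ (hCK : C ≤ K),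
    (∀ k, k ∈ C ↔ k ∈ K ∧ ∀ x ∈ S, x * k * x⁻¹ * k⁻¹ ∈ L) →
    (∀ r ∈ R, ∀ r' ∈ R, r * r' * r⁻¹ * r'⁻¹ ∈ C) →
    ∀ (ν : IrrCharacter L), K ≤ stabGroup ν →
    ∀ (θ : IrrCharacter K), S ≤ stabGroup θ → R ≤ stabGroup θ → Over hLK ν θ → ¬ p ∣ deg θ →
    ∀ (φ : IrrCharacter C), S ≤ stabGroup φ → R ≤ stabGroup φ → SylowCorr.μ p hCK θ φ ≠ 0 →
    ¬ p ∣ deg φ →
    ∀ (μ : S →* ℂˣ), Par ν μ → (∀ r ∈ R, MuInv r μ) → (Ext (K ⊔ R) θ ↔ Ext (C ⊔ R) φ) := by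
  induction n using Nat.strong_induction_on with | _ n ih => ?_
  intro S R C K L hcard hS hRp hLK hKL hSK hSL hRK hRL hRS hSKL hLKp hCK hC hRC ν hν θ hθS hθR
    hθν hθp φ hφS hφR hμ hφp μ hPar hμR
  have hp : p.Prime := Fact.out
  have hLC : L ≤ C := fun l hl => (hC l).2 ⟨hLK hl, fun x hx =>
    L.mul_mem (hSL.mem hx hl) (L.inv_mem hl)⟩
  have hRCn : NormBy R C := fun r hr => fix_normalises hC (hRK r hr) (hRL r hr) (hRS r hr)
  have hSC : NormBy S C := fun r hr => fix_normalises hC (hSK r hr) (hSL r hr) (normalises_self hr)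
  by_cases hSle : S ≤ L
  · have hCeq : C = K := le_antisymm hCK fun k hk => (hC k).2 ⟨hk, fun x hx => by
      have h1 := L.mul_mem (hSle hx) (hKL.mem hk (L.inv_mem (hSle hx)))
      simpa [mul_assoc] using h1⟩
    subst hCeq
    have : φ = θ := by
      by_contra hne
      exact hμ (mu_ext_ne (h := le_rfl) (χ := θ) (θ := θ) rfl hne)
    subst this
    exact Iff.rfl
  obtain ⟨S₁, hS₁L, hS₁S, hSS₁, hRS₁, hab, hmax⟩ := exists_maximal_invariant hS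
    (lt_of_le_of_ne inf_le_left fun e => hSle (inf_eq_left.1 e)) hSL hRS hRL
  set C₁ := SylowCorr.fixIn K L S₁ (fun k hk q hq => hKL.mem hk hq) with hC₁def
  have hC₁ : ∀ k, k ∈ C₁ ↔ k ∈ K ∧ ∀ x ∈ S₁, x * k * x⁻¹ * k⁻¹ ∈ L := fun _ => SylowCorr.mem_fixIn
  have hC₁K : C₁ ≤ K := fun k hk => hk.1
  have hCC₁ : C ≤ C₁ := fun k hk =>
    (hC₁ k).2 ⟨hCK hk, fun x hx => ((hC k).1 hk).2 x (hS₁S.le hx)⟩
  have hLC₁ : L ≤ C₁ := hLC.trans hCC₁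
  have hS₁ : IsPGroup p S₁ := hS.to_le hS₁S.le
  have hS₁K : NormBy S₁ K := hSK.mono hS₁S.le
  have hS₁Ln : NormBy S₁ L := hSL.mono hS₁S.le
  have hRC₁ : NormBy R C₁ := fun r hr => fix_normalises hC₁ (hRK r hr) (hRL r hr) (hRS₁ r hr)
  have hSC₁ : NormBy S C₁ := fun r hr => fix_normalises hC₁ (hSK r hr) (hSL r hr) (hSS₁ r hr)
  have hS₁C₁ : NormBy S₁ C₁ := hSC₁.mono hS₁S.le
  -- the intermediate correspondent
  obtain ⟨f₁, hf₁⟩ := exists_cor' hKL hLKp hS₁ hS₁K hS₁Ln hC₁K hC₁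
  let θ' : SylowCorr.InvIrr S₁ K := ⟨θ, isInv_of_le_stab (hS₁S.le.trans hθS)⟩
  set θ₁ : IrrCharacter C₁ := (f₁ θ').1 with hθ₁def
  have hθ₁S : S ≤ stabGroup θ₁ := fun s hs =>
    (cor_fixes_iff hf₁ (hSK s hs) (hSC₁ s hs) (hSS₁ s hs) hS₁K hS₁C₁ θ').1 (hθS hs)
  have hθ₁R : R ≤ stabGroup θ₁ := fun s hs =>
    (cor_fixes_iff hf₁ (hRK s hs) (hRC₁ s hs) (hRS₁ s hs) hS₁K hS₁C₁ θ').1 (hθR hs)
  have hμ₁ : SylowCorr.μ p hC₁K θ θ₁ ≠ 0 := cor_mu_ne hf₁ θ'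
  have hμ₁φ : SylowCorr.μ p hCC₁ θ₁ φ ≠ 0 := by
    have := mu_eq_mul (h := hCC₁) (h' := hC₁K) hS hSK hSC₁ hSC (χ := ⟨θ, isInv_of_le_stab hθS⟩)
      (ξ := ⟨φ, isInv_of_le_stab hφS⟩) ⟨θ₁, isInv_of_le_stab hθ₁S⟩ fun η hη => by
        rw [(hf₁.2 θ').2 ⟨η.1, η.2.mono hS₁S.le⟩ fun e => hη (Subtype.ext (congrArg (·.1) e)),
          zero_mul]
    intro h0
    exact hμ (by rw [this, h0, mul_zero])
  have hθ₁p : ¬ p ∣ deg θ₁ := by
    intro hd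
    apply hθp
    rw [← ZMod.natCast_eq_zero_iff] at hd ⊢
    rcases hf₁.degree hS₁ hS₁K hS₁C₁ θ' with e | e
    · exact e.symm.trans hd
    · exact neg_eq_zero.1 (e.symm.trans hd)
  have hθ₁ν : Over hLC₁ ν θ₁ := over_down hLC₁ hC₁K hKL hν (over_of_mu hμ₁) hθν
  have hC₁p : ¬ p ∣ L.relIndex C₁ := fun h => hLKp (h.trans
    ⟨_, (Subgroup.relIndex_mul_relIndex L C₁ K hLC₁ hC₁K).symm⟩)
  have hν₁ : C₁ ≤ stabGroup ν := hC₁K.trans hν
  have hC₁L : NormBy C₁ L := hKL.mono hC₁K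
  have hres₁ := resSub_eq_smul hLC₁ hC₁L hν₁ hθ₁ν
  -- reduction for the first factor
  let μ₁ : S₁ →* ℂˣ := μ.comp (Subgroup.inclusion hS₁S.le)
  have hPar₁ : Par ν μ₁ := fun x hx => hPar (Subgroup.inclusion hS₁S.le x) hx
  have hμ₁R : ∀ r ∈ R, MuInv r μ₁ := fun r hr x x' e => hμR r hr _ _ e
  have hcardS : Nat.card S₁ < Nat.card S := Set.Finite.card_lt_card (Set.toFinite _) hS₁S
  have first : ∀ R' ≤ R, (Ext (K ⊔ R') θ ↔ Ext (C₁ ⊔ R') θ₁) := fun R' hR' =>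
    ih (Nat.card S₁ + Nat.card R')
      (by have := Subgroup.card_le_of_le hR'; omega) S₁ R' C₁ K L rfl hS₁
      (fun h => hRp (h.trans (Subgroup.card_dvd_of_le hR'))) hLK hKL hS₁K hS₁Ln (hRK.mono hR')
      (hRL.mono hR') (hRS₁.mono hR') ((inf_le_inf_right K hS₁S.le).trans hSKL) hLKp hC₁K hC₁
      (fun r hr r' hr' => hCC₁ (hRC r (hR' hr) r' (hR' hr'))) ν hν θ (hS₁S.le.trans hθS)
      (hR'.trans hθR) hθν hθp θ₁ (hS₁S.le.trans hθ₁S) (hR'.trans hθ₁R) hμ₁ hθ₁p μ₁ hPar₁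
      (fun r hr => hμ₁R r (hR' hr))
  refine (first R le_rfl).trans ?_
  -- the extended pair
  set A := C₁ ⊔ S₁ with hA
  set B := C ⊔ S₁ with hB
  set Q := L ⊔ S₁ with hQ
  have hC₁A : C₁ ≤ A := le_sup_left
  have hS₁A : S₁ ≤ A := le_sup_right
  have hCB : C ≤ B := le_sup_left
  have hBA : B ≤ A := sup_le_sup_right hCC₁ _
  have hQB : Q ≤ B := sup_le_sup_right hLC _
  have hC₁Q : NormBy C₁ Q := by
    intro c hc
    refine Glauberman.normalises_of_mem fun y hy => ?_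
    have hle : Q ≤ Q.comap (MulAut.conj c).toMonoidHom := by
      refine sup_le (fun l hl => Subgroup.mem_sup_left (hC₁L.mem hc hl)) (fun s hs => ?_)
      show c * s * c⁻¹ ∈ Q
      have h1 := ((hC₁ c).1 hc).2 s⁻¹ (S₁.inv_mem hs)
      have h2 := Q.mul_mem (Subgroup.mem_sup_right hs) (Subgroup.mem_sup_left (T := S₁) h1)
      simpa [mul_assoc] using h2
    exact hle hy
  have hSQ : NormBy S Q := hSL.sup hSS₁
  have hRQ : NormBy R Q := hRL.sup hRS₁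
  have hAQ : NormBy A Q := hC₁Q.sup_left (hS₁Ln.sup (normBy_self S₁))
  have hAeq : A = C₁ ⊔ Q := by
    rw [hA, hQ, ← sup_assoc, sup_eq_left.2 hLC₁]
  have hSA : NormBy S A := hSC₁.sup hSS₁
  have hRA : NormBy R A := hRC₁.sup hRS₁
  have hSB : NormBy S B := hSC.sup hSS₁
  have hRB : NormBy R B := hRCn.sup hRS₁
  have hKQ : K ⊓ Q ≤ L := inf_sup_le ((inf_le_inf_right K hS₁S.le).trans hSKL) hLK hS₁Ln
  have hsmall : ∀ c ∈ C₁, (∀ x ∈ S, x * c * x⁻¹ * c⁻¹ ∈ Q) → c ∈ C := fun c hc h =>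
    (hC c).2 ⟨hC₁K hc, fun x hx => hKQ ⟨K.mul_mem (hSK.mem hx (hC₁K hc)) (K.inv_mem (hC₁K hc)),
      h x hx⟩⟩
  have hBfix : ∀ a, a ∈ B ↔ a ∈ A ∧ ∀ x ∈ S, x * a * x⁻¹ * a⁻¹ ∈ Q := by
    intro a
    have hqq : ∀ c ∈ C₁, ∀ q ∈ Q, ∀ x ∈ S, c * (x * q * x⁻¹ * q⁻¹) * c⁻¹ ∈ Q := fun c hc q hq x hx =>
      hC₁Q.mem hc (Q.mul_mem (hSQ.mem hx hq) (Q.inv_mem hq))
    constructor
    · intro ha
      refine ⟨hBA ha, fun x hx => ?_⟩
      have hB' : B = C ⊔ Q := by rw [hB, hQ, ← sup_assoc, sup_eq_left.2 hLC]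
      rw [hB'] at ha
      obtain ⟨c, hc, q, hq, rfl⟩ := mem_sup_decomp (hC₁Q.mono hCC₁) ha
      exact comm_conj (Subgroup.mem_sup_left (((hC c).1 hc).2 x hx)) (hqq c (hCC₁ hc) q hq x hx)
    · rintro ⟨ha, h⟩
      rw [hAeq] at ha
      obtain ⟨c, hc, q, hq, rfl⟩ := mem_sup_decomp hC₁Q ha
      exact B.mul_mem (hCB (hsmall c hc fun x hx => comm_left (h x hx) (hqq c hc q hq x hx)))
        (hQB hq)
  have hAp : ¬ p ∣ Q.relIndex A := by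
    intro h
    rw [hAeq] at h
    exact hC₁p (h.trans (relIndex_sup_dvd hC₁Q le_sup_left))
  obtain ⟨fA, hfA⟩ := exists_cor' hAQ hAp hS hSA hSQ hBA hBfix
  have hS₁θ₁ : S₁ ≤ stabGroup θ₁ := hS₁S.le.trans hθ₁S
  have hS₁C₁L : S₁ ⊓ C₁ ≤ L := (inf_le_inf hS₁S.le hC₁K).trans hSKL
  have hParθ₁ : Par θ₁ μ₁ := (par_iff hS₁ hLC₁ hS₁C₁L hres₁ hθ₁p μ₁).2 hPar₁
  obtain ⟨θp, hθpe, hθpμ⟩ := exists_ext_param hS₁ hS₁θ₁ hθ₁p hParθ₁
  have hθpS : S ≤ stabGroup θp := fun s hs =>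
    (fixes_ext_iff hS₁ hS₁θ₁ hθ₁p hθpe hθpμ (hθ₁S hs) (hSS₁ s hs)).2 fun x x' e => by
      show μ (Subgroup.inclusion hS₁S.le x') = μ (Subgroup.inclusion hS₁S.le x)
      rw [show Subgroup.inclusion hS₁S.le x' = ⟨s, hs⟩ * Subgroup.inclusion hS₁S.le x *
        (⟨s, hs⟩ : S)⁻¹ from Subtype.ext e, map_mul, map_mul, map_inv, mul_inv_cancel_comm]
  have hθpR : R ≤ stabGroup θp := fun s hs =>
    (fixes_ext_iff hS₁ hS₁θ₁ hθ₁p hθpe hθpμ (hθ₁R hs) (hRS₁ s hs)).2 (hμ₁R s hs)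
  let θp' : SylowCorr.InvIrr S A := ⟨θp, isInv_of_le_stab hθpS⟩
  set ξ₀ : IrrCharacter B := (fA θp').1 with hξ₀def
  have hξ₀S : S ≤ stabGroup ξ₀ := le_stab_of_isInv hSB (fA θp').2
  have hξ₀R : R ≤ stabGroup ξ₀ := fun s hs =>
    (cor_fixes_iff hfA (hRA s hs) (hRB s hs) (hRS s hs) hSA hSB θp').1 (hθpR hs)
  have hξ₀p : ¬ p ∣ deg ξ₀ := by
    intro hd
    apply hθ₁p
    rw [← IsExt.deg_eq hθpe, ← ZMod.natCast_eq_zero_iff] at *
    rcases hfA.degree hS hSA hSB θp' with e | e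
    · exact e.symm.trans hd
    · exact neg_eq_zero.1 (e.symm.trans hd)
  -- `ξ₀` extends `φ`
  have hξ₀e : IsExt hCB φ ξ₀ := by
    have e1 : SylowCorr.μ p (hCC₁.trans hC₁A) θp φ ≠ 0 := by
      have := mu_eq_mul (h := hCC₁) (h' := hC₁A) hS hSA hSC₁ hSC (χ := θp')
        (ξ := ⟨φ, isInv_of_le_stab hφS⟩) ⟨θ₁, isInv_of_le_stab hθ₁S⟩ fun η hη => by
          rw [mu_ext_ne hθpe fun e => hη (Subtype.ext e), zero_mul]
      rw [this, mu_ext hθpe, one_mul]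
      exact hμ₁φ
    have e2 := mu_eq_mul (h := hCB) (h' := hBA) hS hSA hSB hSC (χ := θp')
      (ξ := ⟨φ, isInv_of_le_stab hφS⟩) ⟨ξ₀, isInv_of_le_stab hξ₀S⟩ fun η hη => by
        rw [(hfA.2 θp').2 η fun e => hη (Subtype.ext (congrArg (·.1) e)), zero_mul]
    have ho : Over hCB φ ξ₀ := over_of_mu fun h0 => e1 (by rw [e2, h0, mul_zero])
    obtain ⟨a, ha⟩ := relIndex_sup_pow hS₁ (hSC.mono hS₁S.le)
    exact isExt_of_pPrime hp hCB (normBy_sup (hSC.mono hS₁S.le)) ha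
      (sup_le_stab (hS₁S.le.trans hφS)) ho hξ₀p
  -- passing between `θ₁`, `θp` and `φ`, `ξ₀`
  have upA : ∀ R' ≤ R, (Ext (A ⊔ R') θp ↔ Ext (C₁ ⊔ R') θ₁) := fun R' hR' =>
    ext_iff_of_restrict hC₁A le_sup_left le_sup_left (sup_le_sup_right hC₁A R')
      (inf_sup_le_of_pPower hS₁ (fun h => hRp (h.trans (Subgroup.card_dvd_of_le hR')))
        (hRC₁.mono hR') hS₁C₁)
      (sup_le (sup_le (le_sup_left.trans le_sup_left) (hS₁A.trans le_sup_right))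
        (le_sup_right.trans le_sup_left))
      ((normBy_self A).sup_left (hRA.mono hR')) (sup_le (le_stabGroup θp) (hR'.trans hθpR)) hθpe
  have upB : ∀ R' ≤ R, (Ext (B ⊔ R') ξ₀ ↔ Ext (C ⊔ R') φ) := fun R' hR' =>
    ext_iff_of_restrict hCB le_sup_left le_sup_left (sup_le_sup_right hCB R')
      (inf_sup_le_of_pPower hS₁ (fun h => hRp (h.trans (Subgroup.card_dvd_of_le hR')))
        (hRCn.mono hR') (hSC.mono hS₁S.le))
      (sup_le (sup_le (le_sup_left.trans le_sup_left) ((le_sup_right : S₁ ≤ B).trans le_sup_right))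
        (le_sup_right.trans le_sup_left))
      ((normBy_self B).sup_left (hRB.mono hR')) (sup_le (le_stabGroup ξ₀) (hR'.trans hξ₀R)) hξ₀e
  rw [← upA R le_rfl, ← upB R le_rfl]
  by_cases hRleC : R ≤ C
  · rw [sup_eq_left.2 (hRleC.trans (hCC₁.trans hC₁A)), sup_eq_left.2 (hRleC.trans hCB)]
    exact iff_of_true (ext_self θp) (ext_self ξ₀)
  -- the subgroup acting trivially on the top factor
  set R₀ := SylowCorr.fixIn R Q S (fun r hr q hq => hRQ.mem hr hq) with hR₀def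
  have hR₀ : ∀ r, r ∈ R₀ ↔ r ∈ R ∧ ∀ x ∈ S, x * r * x⁻¹ * r⁻¹ ∈ Q := fun _ => SylowCorr.mem_fixIn
  obtain ⟨R₁, hR₁R, hR₁R₀, hR₁n, r, hr, hgen⟩ : ∃ R₁ : Subgroup G, R₁ < R ∧ R₁ ≤ R₀ ∧
      NormBy R R₁ ∧ ∃ r ∈ R, R ≤ R₁ ⊔ Subgroup.zpowers r := by
    by_cases hR₀R : R ≤ R₀
    · obtain ⟨R₁, hR₁⟩ := Set.Finite.exists_maximal
        (s := {T : Subgroup G | R ⊓ C ≤ T ∧ T < R}) (Set.toFinite _)
        ⟨R ⊓ C, le_rfl, inf_le_left.lt_of_ne fun e => hRleC (inf_eq_left.1 e)⟩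
      obtain ⟨h1, h2⟩ := hR₁.1
      refine ⟨R₁, h2, h2.le.trans hR₀R, normBy_of_mem fun g hg x hx => ?_, ?_⟩
      · have h3 : g * x * g⁻¹ * x⁻¹ ∈ R₁ := h1 ⟨R.mul_mem (R.mul_mem (R.mul_mem hg (h2.le hx))
          (R.inv_mem hg)) (R.inv_mem (h2.le hx)), hRC g hg x (h2.le hx)⟩
        simpa using R₁.mul_mem h3 hx
      · obtain ⟨r, hr, hr'⟩ := SetLike.exists_of_lt h2
        refine ⟨r, hr, ?_⟩
        by_contra hle
        have hlt : R₁ ⊔ Subgroup.zpowers r < R :=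
          (sup_le h2.le (Subgroup.zpowers_le.2 hr)).lt_of_ne fun e => hle e.ge
        exact hr' (hR₁.2 ⟨h1.trans le_sup_left, hlt⟩ le_sup_left
          (Subgroup.mem_sup_right (Subgroup.mem_zpowers r)))
    · refine ⟨R₀, lt_of_le_of_ne (fun r hr => hr.1) fun e => hR₀R e.ge, le_rfl,
        fun g hg => fix_normalises hR₀ (normalises_self hg) (hRQ g hg) (hRS g hg), ?_⟩
      have hSQS₁ : S ⊓ Q ≤ S₁ := by
        rintro y ⟨hy, hy'⟩
        rw [SetLike.mem_coe, hQ, sup_comm] at hy'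
        obtain ⟨s, hs, l, hl, rfl⟩ := mem_sup_decomp hS₁Ln hy'
        have : l ∈ S := by simpa using S.mul_mem (S.inv_mem (hS₁S.le hs)) hy
        exact S₁.mul_mem hs (hS₁L ⟨this, hl⟩)
      refine exists_gen hS₁S hSS₁ hRS hRS₁ hab hmax (fun r hr r' hr' x hx => ?_) R₀ fun r => ?_
      · set c := r * r' * r⁻¹ * r'⁻¹ with hc
        set y := r' * r * x * (r' * r)⁻¹ with hy
        have hcC := hRC r hr r' hr'
        have hyS : y ∈ S := (hRS _ (R.mul_mem hr' hr) x).1 hx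
        have hcR : c ∈ R := R.mul_mem (R.mul_mem (R.mul_mem hr hr') (R.inv_mem hr)) (R.inv_mem hr')
        have e : r * r' * x * (r * r')⁻¹ * (r' * r * x * (r' * r)⁻¹)⁻¹ = c * y * c⁻¹ * y⁻¹ := by
          rw [hc, hy]; group
        rw [e]
        refine hS₁L ⟨S.mul_mem ((hRS c hcR y).1 hyS) (S.inv_mem hyS), ?_⟩
        have := L.inv_mem (((hC c).1 hcC).2 y hyS)
        simpa [mul_assoc] using this
      · rw [hR₀]
        refine and_congr_right fun hr => forall₂_congr fun x hx => ⟨fun h => ?_, fun h => ?_⟩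
        · refine hSQS₁ ⟨S.mul_mem ((hRS r hr x).1 hx) (S.inv_mem hx), ?_⟩
          have := Q.inv_mem h
          simpa [mul_assoc] using this
        · have := Q.inv_mem ((le_sup_right : S₁ ≤ Q) h)
          simpa [mul_assoc] using this
  -- below the top factor
  have hcardR : Nat.card R₁ < Nat.card R := Set.Finite.card_lt_card (Set.toFinite _) hR₁R
  have hR₁p : ¬ p ∣ Nat.card R₁ := fun h => hRp (h.trans (Subgroup.card_dvd_of_le hR₁R.le))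
  have second : Ext (A ⊔ R₁) θp ↔ Ext (B ⊔ R₁) ξ₀ := by
    rw [upA R₁ hR₁R.le, upB R₁ hR₁R.le, ← first R₁ hR₁R.le]
    exact ih (Nat.card S + Nat.card R₁) (by omega) S R₁ C K L rfl hS hR₁p hLK hKL hSK hSL
      (hRK.mono hR₁R.le) (hRL.mono hR₁R.le) (hRS.mono hR₁R.le) hSKL hLKp hCK hC
      (fun a ha b hb => hRC a (hR₁R.le ha) b (hR₁R.le hb)) ν hν θ hθS (hR₁R.le.trans hθR) hθν hθp
      φ hφS (hR₁R.le.trans hφR) hμ hφp μ hPar (fun a ha => hμR a (hR₁R.le ha))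
  set A' := A ⊔ R₁ with hA'
  set B' := B ⊔ R₁ with hB'
  have hAA' : A ≤ A' := le_sup_left
  have hBB' : B ≤ B' := le_sup_left
  have hB'A' : B' ≤ A' := sup_le_sup_right hBA _
  have hR₁A : NormBy R₁ A := hRA.mono hR₁R.le
  have hR₁B : NormBy R₁ B := hRB.mono hR₁R.le
  have hA'A : NormBy A' A := (normBy_self A).sup_left hR₁A
  have hB'B : NormBy B' B := (normBy_self B).sup_left hR₁B
  have hA'Q : NormBy A' Q := hAQ.sup_left (hRQ.mono hR₁R.le)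
  have hSR₁ : ∀ x ∈ S, ∀ a ∈ R₁, x * a * x⁻¹ * a⁻¹ ∈ Q := fun x hx a ha =>
    ((hR₀ a).1 (hR₁R₀ ha)).2 x hx
  have hcen : ∀ {Z : Subgroup G}, Q ≤ Z → NormBy S Z → NormBy R₁ Z → ∀ x ∈ S,
      ∀ g ∈ Z ⊔ R₁, x * g * x⁻¹ * g⁻¹ ∈ Z := by
    intro Z hQZ hSZ hRZ x hx g hg
    rw [sup_comm] at hg
    obtain ⟨a, ha, z, hz, rfl⟩ := mem_sup_decomp hRZ hg
    exact comm_conj (hQZ (hSR₁ x hx a ha)) (hRZ.mem ha (Z.mul_mem (hSZ.mem hx hz) (Z.inv_mem hz)))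
  have hSA' : NormBy S A' := normBy_of_mem fun x hx g hg => by
    have := A'.mul_mem (hAA' (hcen (hQB.trans hBA) hSA hR₁A x hx g hg)) hg
    simpa using this
  have hSB' : NormBy S B' := normBy_of_mem fun x hx g hg => by
    have := B'.mul_mem (hBB' (hcen hQB hSB hR₁B x hx g hg)) hg
    simpa using this
  have hB'fix : ∀ a, a ∈ B' ↔ a ∈ A' ∧ ∀ x ∈ S, x * a * x⁻¹ * a⁻¹ ∈ Q := by
    intro a
    have hqq : ∀ z ∈ A, ∀ w ∈ R₁, ∀ x ∈ S, z * (x * w * x⁻¹ * w⁻¹) * z⁻¹ ∈ Q := fun z hz w hw x hx =>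
      hAQ.mem hz (hSR₁ x hx w hw)
    constructor
    · intro ha
      refine ⟨hB'A' ha, fun x hx => ?_⟩
      obtain ⟨w, hw, z, hz, rfl⟩ := mem_sup_decomp hR₁B (by rwa [hB', sup_comm] at ha)
      refine comm_conj (hSR₁ x hx w hw) (hRQ.mem (hR₁R.le hw) (((hBfix z).1 hz).2 x hx))
    · rintro ⟨ha, h⟩
      obtain ⟨w, hw, z, hz, rfl⟩ := mem_sup_decomp hR₁A (by rwa [hA', sup_comm] at ha)
      refine B'.mul_mem (Subgroup.mem_sup_right hw) (hBB' ((hBfix z).2 ⟨hz, fun x hx => ?_⟩))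
      have h1 := Q.mul_mem (Q.inv_mem (hSR₁ x hx w hw)) (h x hx)
      have h2 := hRQ.mem (R.inv_mem (hR₁R.le hw)) h1
      simpa [mul_assoc] using h2
  have hA'p : ¬ p ∣ Q.relIndex A' := by
    have hXn : NormBy (C₁ ⊔ R₁) Q := hC₁Q.sup_left (hRQ.mono hR₁R.le)
    have e : A' = (C₁ ⊔ R₁) ⊔ Q := by
      rw [hA', hAeq, sup_assoc, sup_comm Q, sup_assoc]
    intro h
    rw [e] at h
    exact not_dvd_of_sup hp (hRC₁.mono hR₁R.le) hLC₁ hC₁p hR₁p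
      (h.trans (relIndex_sup_dvd hXn le_sup_left))
  obtain ⟨f', hf'⟩ := exists_cor' hA'Q hA'p hS hSA' hSQ hB'A' hB'fix
  have hA'ab : ∀ a ∈ A', ∀ b ∈ A', a * b * a⁻¹ * b⁻¹ ∈ A := sup_comm_mem hR₁A
    fun a ha b hb => hC₁A (hCC₁ (hRC a (hR₁R.le ha) b (hR₁R.le hb)))
  have hB'ab : ∀ a ∈ B', ∀ b ∈ B', a * b * a⁻¹ * b⁻¹ ∈ B := sup_comm_mem hR₁B
    fun a ha b hb => hCB (hRC a (hR₁R.le ha) b (hR₁R.le hb))
  have hA'idx : ¬ p ∣ A.relIndex A' := not_dvd_of_sup hp hR₁A le_rfl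
    (by simpa using hp.not_dvd_one) hR₁p
  have hB'idx : ¬ p ∣ B.relIndex B' := not_dvd_of_sup hp hR₁B le_rfl
    (by simpa using hp.not_dvd_one) hR₁p
  have hRR₁ : NormBy R R₁ := hR₁n
  have hRA' : NormBy R A' := hRA.sup hRR₁
  have hRB' : NormBy R B' := hRB.sup hRR₁
  have hAR : A ⊔ R ≤ A' ⊔ Subgroup.zpowers r := sup_le (hAA'.trans le_sup_left)
    (hgen.trans (sup_le_sup_right le_sup_right _))
  have hBR : B ⊔ R ≤ B' ⊔ Subgroup.zpowers r := sup_le (hBB'.trans le_sup_left)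
    (hgen.trans (sup_le_sup_right le_sup_right _))
  have hA'le : A' ≤ A ⊔ R := sup_le_sup_left hR₁R.le _
  have hB'le : B' ≤ B ⊔ R := sup_le_sup_left hR₁R.le _
  constructor
  · rintro ⟨h, ζ, hζ⟩
    let η : IrrCharacter A' := ⟨_, isIrr_of_resSub hAA'
      (isCharacter_resSub hA'le (Chars.irr_isCharacter ζ)) θp hζ⟩
    have hηe : IsExt hAA' θp η := hζ
    have hηR : R ≤ stabGroup η := fun g hg => by
      have hg' : g ∈ A ⊔ R := Subgroup.mem_sup_right hg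
      exact IsExt.fixes (h := hA'le) (θ := η) (χ := ζ) rfl (fixes_of_mem hg' ζ) (hRA' g hg)
    have hηS : S ≤ stabGroup η := inv_of_ext hS hAA' hA'A hA'ab hA'idx hSA'
      (hcen (hQB.trans hBA) hSA hR₁A) hθpS hηe
    let η' : SylowCorr.InvIrr S A' := ⟨η, isInv_of_le_stab hηS⟩
    set ξ := f' η' with hξdef
    have e1 : SylowCorr.μ p (hBB'.trans hB'A') η ξ₀ ≠ 0 := by
      have := mu_eq_mul (h := hBA) (h' := hAA') hS hSA' hSA hSB (χ := η')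
        (ξ := ⟨ξ₀, isInv_of_le_stab hξ₀S⟩) θp' fun χ hχ => by
          rw [mu_ext_ne hηe fun e => hχ (Subtype.ext e), zero_mul]
      rw [show SylowCorr.μ p (hBB'.trans hB'A') η ξ₀ = _ from this, mu_ext hηe, one_mul]
      exact cor_mu_ne hfA θp'
    have e2 := mu_eq_mul (h := hBB') (h' := hB'A') hS hSA' hSB' hSB (χ := η')
      (ξ := ⟨ξ₀, isInv_of_le_stab hξ₀S⟩) ξ fun χ hχ => by rw [(hf'.2 η').2 χ hχ, zero_mul]
    have ho : Over hBB' ξ₀ ξ.1 := over_of_mu fun h0 => e1 (by rw [e2, h0, mul_zero])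
    obtain ⟨_, κ, hκ⟩ := second.1 (Ext.restrict ⟨h, ζ, hζ⟩ hAA' hA'le)
    haveI := hB'B.normal
    obtain ⟨l, -, hl⟩ := Glauberman.exists_lin_mul_eq hBB' hB'ab ξ₀ κ ξ.1 hκ.over ho
    have hξe : IsExt hBB' ξ₀ ξ.1 := by
      refine isExt_of_deg hBB' hB'B (sup_le (le_stabGroup ξ₀) (hR₁R.le.trans hξ₀R)) ho ?_
      rw [← hκ.deg_eq]
      have := congrFun hl 1
      simp only [map_one, Units.val_one, mul_one, deg_spec] at this
      exact_mod_cast this.symm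
    have hξR : R ≤ stabGroup ξ.1 := fun g hg =>
      (cor_fixes_iff hf' (hRA' g hg) (hRB' g hg) (hRS g hg) hSA' hSB' η').1 (hηR hg)
    have hnB' : NormBy (B ⊔ R) B' :=
      (normBy_self B').mono hBB' |>.sup_left hRB'
    obtain ⟨_, χ, hχ⟩ := ext_of_gen hB'le hnB' (θ := ξ.1)
      (sup_le (hBB'.trans (le_stabGroup ξ.1)) hξR) (Subgroup.mem_sup_right hr) hBR
    refine ⟨le_sup_left, χ, ?_⟩
    rw [IsExt, ← Glauberman.resSub_resSub hB'le hBB', hχ]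
    exact hξe
  · rintro ⟨h, ζ, hζ⟩
    let ξ : IrrCharacter B' := ⟨_, isIrr_of_resSub hBB'
      (isCharacter_resSub hB'le (Chars.irr_isCharacter ζ)) ξ₀ hζ⟩
    have hξe : IsExt hBB' ξ₀ ξ := hζ
    have hξR : R ≤ stabGroup ξ := fun g hg =>
      IsExt.fixes (h := hB'le) (θ := ξ) (χ := ζ) rfl (fixes_of_mem (Subgroup.mem_sup_right hg) ζ)
        (hRB' g hg)
    have hξS : S ≤ stabGroup ξ := inv_of_ext hS hBB' hB'B hB'ab hB'idx hSB'
      (hcen hQB hSB hR₁B) hξ₀S hξe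
    obtain ⟨η', hη'⟩ := hf'.1.2 ⟨ξ, isInv_of_le_stab hξS⟩
    have e1 : SylowCorr.μ p (hBA.trans hAA') η'.1 ξ₀ ≠ 0 := by
      have := mu_eq_mul (h := hBB') (h' := hB'A') hS hSA' hSB' hSB (χ := η')
        (ξ := ⟨ξ₀, isInv_of_le_stab hξ₀S⟩) ⟨ξ, isInv_of_le_stab hξS⟩ fun χ hχ => by
          rw [(hf'.2 η').2 χ (by rw [hη']; exact hχ), zero_mul]
      rw [show SylowCorr.μ p (hBA.trans hAA') η'.1 ξ₀ = _ from this, mu_ext hξe, mul_one]
      have := cor_mu_ne hf' η'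
      rwa [hη'] at this
    have e2 := mu_eq_mul (h := hBA) (h' := hAA') hS hSA' hSA hSB (χ := η')
      (ξ := ⟨ξ₀, isInv_of_le_stab hξ₀S⟩) θp' fun χ hχ => by
        by_contra hne
        exact hχ (hfA.1.1 (eq_of_mu_ne hfA (ξ := ⟨ξ₀, isInv_of_le_stab hξ₀S⟩)
          (right_ne_zero_of_mul hne)).symm)
    have ho : Over hAA' θp η'.1 := over_of_mu fun h0 => e1 (by rw [e2, h0, zero_mul])
    obtain ⟨_, κ, hκ⟩ := second.2 (Ext.restrict ⟨h, ζ, hζ⟩ hBB' hB'le)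
    haveI := hA'A.normal
    obtain ⟨l, -, hl⟩ := Glauberman.exists_lin_mul_eq hAA' hA'ab θp κ η'.1 hκ.over ho
    have hηe : IsExt hAA' θp η'.1 := by
      refine isExt_of_deg hAA' hA'A (sup_le (le_stabGroup θp) (hR₁R.le.trans hθpR)) ho ?_
      rw [← hκ.deg_eq]
      have := congrFun hl 1
      simp only [map_one, Units.val_one, mul_one, deg_spec] at this
      exact_mod_cast this.symm
    have hηR : R ≤ stabGroup η'.1 := fun g hg =>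
      (cor_fixes_iff hf' (hRA' g hg) (hRB' g hg) (hRS g hg) hSA' hSB' η').2 (hη'.symm ▸ hξR hg)
    have hnA' : NormBy (A ⊔ R) A' :=
      (normBy_self A').mono hAA' |>.sup_left hRA'
    obtain ⟨_, χ, hχ⟩ := ext_of_gen hA'le hnA' (θ := η'.1)
      (sup_le (hAA'.trans (le_stabGroup η'.1)) hηR) (Subgroup.mem_sup_right hr) hAR
    refine ⟨le_sup_left, χ, ?_⟩
    rw [IsExt, ← Glauberman.resSub_resSub hA'le hAA', hχ]
    exact hηe

end Cfsg.Agent.Lib.RelMcKay
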