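import Cfsg.Agent.Lib.RelMcKay.Count
import Cfsg.Agent.Lib.RelMcKay.Act

/-!
# Comparing the numbers of characters over two corresponding characters
-/

set_option autoImplicit false
set_option maxHeartbeats 1000000

namespace Cfsg.Agent.Lib.RelMcKay

open Cfsg
open Cfsg.Agent.Lib
open Cfsg.Agent.Lib.Glauberman (IsInv IsConjBy resSub Normalises charMult isCharacter_resSub)
open scoped commutatorElement

variable {G : Type*} [Group G] [Finite G] {M D U T W : Subgroup G}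

theorem comm_congr (hn : NormBy T M) {g g' h h' : G} (hg : g ∈ T) (hg' : g' ∈ T) (hh : h ∈ T)
    (hh' : h' ∈ T) (eg : g⁻¹ * g' ∈ M) (eh : h⁻¹ * h' ∈ M) : ⁅g', h'⁆ ∈ M ↔ ⁅g, h⁆ ∈ M := by
  haveI := hn.normal
  let q := QuotientGroup.mk' (M.subgroupOf T)
  have key : ∀ a b : T, ⁅(a : G), (b : G)⁆ ∈ M ↔ ⁅q a, q b⁆ = 1 := fun a b => by
    rw [← map_commutatorElement, QuotientGroup.mk'_apply, QuotientGroup.eq_one_iff,
      Subgroup.mem_subgroupOf]
    simp [commutatorElement_def]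
  have e1 : q ⟨g, hg⟩ = q ⟨g', hg'⟩ := QuotientGroup.eq.2 (by simpa [Subgroup.mem_subgroupOf] using eg)
  have e2 : q ⟨h, hh⟩ = q ⟨h', hh'⟩ := QuotientGroup.eq.2 (by simpa [Subgroup.mem_subgroupOf] using eh)
  rw [key ⟨g', hg'⟩ ⟨h', hh'⟩, key ⟨g, hg⟩ ⟨h, hh⟩, e1, e2]

omit [Finite G] in
theorem sup_zpowers_congr {g g' : G} (e : g⁻¹ * g' ∈ M) :
    M ⊔ Subgroup.zpowers g' = M ⊔ Subgroup.zpowers g := by
  have h1 : g' ∈ M ⊔ Subgroup.zpowers g := by
    have := (M ⊔ Subgroup.zpowers g).mul_mem (Subgroup.mem_sup_right (Subgroup.mem_zpowers g))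
      (Subgroup.mem_sup_left e)
    simpa using this
  have h2 : g ∈ M ⊔ Subgroup.zpowers g' := by
    have := (M ⊔ Subgroup.zpowers g').mul_mem (Subgroup.mem_sup_right (Subgroup.mem_zpowers g'))
      (Subgroup.mem_sup_left (M.inv_mem e))
    simpa using this
  exact le_antisymm (sup_le le_sup_left (Subgroup.zpowers_le.2 h1))
    (sup_le le_sup_left (Subgroup.zpowers_le.2 h2))

omit [Finite G] in
theorem sup_sup_zpowers_congr {g g' h h' : G} (eg : g⁻¹ * g' ∈ M) (eh : h⁻¹ * h' ∈ M) :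
    M ⊔ Subgroup.zpowers h' ⊔ Subgroup.zpowers g' = M ⊔ Subgroup.zpowers h ⊔ Subgroup.zpowers g := by
  rw [sup_zpowers_congr eh, sup_right_comm, sup_zpowers_congr eg, sup_right_comm]

/-- Two elements commuting modulo `D` generate an abelian group modulo `D`. -/
theorem comm_of_two (hn : NormBy W D) {h g : G} (hh : h ∈ W) (hg : g ∈ W)
    (hW : W ≤ D ⊔ Subgroup.zpowers h ⊔ Subgroup.zpowers g) (hc : ⁅g, h⁆ ∈ D) :
    ∀ a ∈ W, ∀ b ∈ W, a * b * a⁻¹ * b⁻¹ ∈ D := by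
  haveI := hn.normal
  let q := QuotientGroup.mk' (D.subgroupOf W)
  have h1 : ⁅q ⟨g, hg⟩, q ⟨h, hh⟩⁆ = 1 := by
    rw [← map_commutatorElement, QuotientGroup.mk'_apply, QuotientGroup.eq_one_iff,
      Subgroup.mem_subgroupOf]
    simpa [commutatorElement_def] using hc
  have hcomm : Commute (q ⟨g, hg⟩) (q ⟨h, hh⟩) := commutatorElement_eq_one_iff_commute.1 h1
  have hhD : NormBy (Subgroup.zpowers h) D := hn.mono (Subgroup.zpowers_le.2 hh)
  have hgn : NormBy (Subgroup.zpowers g) (D ⊔ Subgroup.zpowers h) := by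
    have : Subgroup.zpowers g ≤ Glauberman.normGroup (D ⊔ Subgroup.zpowers h) := by
      refine Subgroup.zpowers_le.2 (Glauberman.normalises_of_mem fun x hx => ?_)
      have hle : D ⊔ Subgroup.zpowers h ≤
          (D ⊔ Subgroup.zpowers h).comap (MulAut.conj g).toMonoidHom := by
        refine sup_le (fun d hd => Subgroup.mem_sup_left (hn.mem hg hd))
          (Subgroup.zpowers_le.2 ?_)
        show g * h * g⁻¹ ∈ D ⊔ Subgroup.zpowers h
        have := (D ⊔ Subgroup.zpowers h).mul_mem (Subgroup.mem_sup_left hc)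
          (Subgroup.mem_sup_right (Subgroup.mem_zpowers h))
        simpa [commutatorElement_def] using this
      exact hle hx
    exact fun x hx => this hx
  have key : ∀ w (hw : w ∈ W), ∃ i j : ℤ, q ⟨w, hw⟩ = q ⟨g, hg⟩ ^ i * q ⟨h, hh⟩ ^ j := by
    intro w hw
    have hw' := hW hw
    rw [sup_comm] at hw'
    obtain ⟨a, ⟨i, rfl⟩, x, hx, rfl⟩ := mem_sup_decomp hgn hw'
    rw [sup_comm] at hx
    obtain ⟨b, ⟨j, rfl⟩, d, hd, rfl⟩ := mem_sup_decomp hhD hx
    refine ⟨i, j, ?_⟩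
    rw [← map_zpow, ← map_zpow, ← map_mul]
    refine QuotientGroup.eq.2 (Subgroup.mem_subgroupOf.2 ?_)
    simpa [mul_assoc] using D.inv_mem hd
  intro a ha b hb
  obtain ⟨i, j, ea⟩ := key a ha
  obtain ⟨k, l, eb⟩ := key b hb
  have e : Commute (q ⟨a, ha⟩) (q ⟨b, hb⟩) := by
    rw [ea, eb]
    exact ((Commute.refl _).zpow_zpow i k |>.mul_right (hcomm.zpow_zpow i l)).mul_left
      (((hcomm.symm.zpow_zpow j k)).mul_right ((Commute.refl _).zpow_zpow j l))
  have e' := commutatorElement_eq_one_iff_commute.2 e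
  rw [← map_commutatorElement, QuotientGroup.mk'_apply, QuotientGroup.eq_one_iff,
    Subgroup.mem_subgroupOf] at e'
  simpa [commutatorElement_def] using e'

/-- Equal numbers of overlying characters from equal extendibility. -/
theorem over_card_eq (hUT : U ≤ T) (hMT : M ≤ T) (hDU : D ≤ U) (hMn : NormBy T M)
    (hDn : NormBy U D) (hUM : U ⊓ M = D) (hdec : ∀ t ∈ T, ∃ u ∈ U, u⁻¹ * t ∈ M)
    {θ : IrrCharacter M} {φ : IrrCharacter D} (hθ : T ≤ stabGroup θ) (hφ : U ≤ stabGroup φ)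
    (hext : ∀ g ∈ U, ∀ h ∈ U, ⁅g, h⁆ ∈ D →
      (Ext (M ⊔ Subgroup.zpowers h ⊔ Subgroup.zpowers g) θ ↔
        Ext (D ⊔ Subgroup.zpowers h ⊔ Subgroup.zpowers g) φ)) :
    Nat.card {χ : IrrCharacter T // Over hMT θ χ} =
      Nat.card {χ : IrrCharacter U // Over hDU φ χ} := by
  classical
  choose a haU ha using hdec
  have hDM : D ≤ M := hUM ▸ inf_le_right
  let e : U × M ≃ T × D :=
    { toFun := fun x =>
        (⟨x.1 * x.2, T.mul_mem (hUT x.1.2) (hMT x.2.2)⟩,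
          ⟨(a _ (T.mul_mem (hUT x.1.2) (hMT x.2.2)))⁻¹ * x.1, hUM.le ⟨U.mul_mem
            (U.inv_mem (haU _ _)) x.1.2, by
              simpa [mul_assoc] using
                M.mul_mem (ha _ (T.mul_mem (hUT x.1.2) (hMT x.2.2))) (M.inv_mem x.2.2)⟩⟩)
      invFun := fun y =>
        (⟨a y.1 y.1.2 * y.2, U.mul_mem (haU _ _) (hDU y.2.2)⟩,
          ⟨(y.2 : G)⁻¹ * ((a y.1 y.1.2)⁻¹ * y.1), M.mul_mem (M.inv_mem (hDM y.2.2)) (ha _ _)⟩)
      left_inv := fun x => by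
        refine Prod.ext (Subtype.ext ?_) (Subtype.ext ?_) <;> simp [mul_assoc]
      right_inv := fun y => by
        have hb : a y.1 y.1.2 * y.2 * ((y.2 : G)⁻¹ * ((a y.1 y.1.2)⁻¹ * y.1)) = y.1 := by group
        refine Prod.ext (Subtype.ext hb) (Subtype.ext ?_)
        show (a _ _)⁻¹ * (a y.1 y.1.2 * y.2) = y.2
        simp only [hb, inv_mul_cancel_left] }
  have hcT : Nat.card T * Nat.card D = Nat.card U * Nat.card M := by
    rw [← Nat.card_prod, ← Nat.card_prod]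
    exact Nat.card_congr e.symm
  have hpair : ∀ x y : U × M,
      ((e x).1, (e y).1) ∈ pairs T θ ↔ (x.1, y.1) ∈ pairs U φ := by
    intro x y
    have hx : (x.1 : G)⁻¹ * ((x.1 : G) * x.2) ∈ M := by simp
    have hy : (y.1 : G)⁻¹ * ((y.1 : G) * y.2) ∈ M := by simp
    have hxT : (x.1 : G) * x.2 ∈ T := (e x).1.2
    have hyT : (y.1 : G) * y.2 ∈ T := (e y).1.2
    have hUD : ∀ g ∈ U, ∀ h ∈ U, (⁅g, h⁆ ∈ M ↔ ⁅g, h⁆ ∈ D) := fun g hg h hh =>
      ⟨fun hc => hUM.le ⟨by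
        rw [commutatorElement_def]
        exact U.mul_mem (U.mul_mem (U.mul_mem hg hh) (U.inv_mem hg)) (U.inv_mem hh), hc⟩,
        fun hc => hDM hc⟩
    show ⁅(x.1 : G) * x.2, (y.1 : G) * y.2⁆ ∈ M ∧ Good T θ ((y.1 : G) * y.2) ↔
      ⁅(x.1 : G), (y.1 : G)⁆ ∈ D ∧ Good U φ y.1
    rw [comm_congr hMn (hUT x.1.2) hxT (hUT y.1.2) hyT hx hy, hUD _ x.1.2 _ y.1.2]
    refine and_congr_right fun _ => ⟨fun hG g hg hc => ?_, fun hG g hg hc => ?_⟩
    · have := hG g (hUT hg) ((comm_congr hMn (hUT hg) (hUT hg) (hUT y.1.2) hyT (by simp) hy).2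
        ((hUD g hg _ y.1.2).2 hc))
      rw [sup_sup_zpowers_congr (g := g) (g' := g) (by simp) hy] at this
      exact (hext g hg _ y.1.2 hc).1 this
    · have hc' : ⁅a g hg, (y.1 : G)⁆ ∈ D := (hUD _ (haU g hg) _ y.1.2).1
        ((comm_congr hMn (hUT (haU g hg)) hg (hUT y.1.2) hyT (ha g hg) hy).1 hc)
      rw [sup_sup_zpowers_congr (ha g hg) hy]
      exact (hext _ (haU g hg) _ y.1.2 hc').2 (hG _ (haU g hg) hc')
  have hcard : Nat.card (pairs T θ) * Nat.card D ^ 2 = Nat.card (pairs U φ) * Nat.card M ^ 2 := by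
    rw [sq, sq, ← Nat.card_prod D D, ← Nat.card_prod M M, ← Nat.card_prod, ← Nat.card_prod]
    refine (Nat.card_congr ?_).symm
    refine (Equiv.trans ?_ ((((e.prodCongr e).subtypeEquiv
      (p := fun z : (U × M) × (U × M) => (z.1.1, z.2.1) ∈ pairs U φ)
      (q := fun w : (T × D) × (T × D) => (w.1.1, w.2.1) ∈ pairs T θ)
      fun z => (hpair z.1 z.2).symm)).trans ?_))
    · exact
        { toFun := fun z => ⟨((z.1.1.1, z.2.1), (z.1.1.2, z.2.2)), z.1.2⟩
          invFun := fun z => (⟨(z.1.1.1, z.1.2.1), z.2⟩, (z.1.1.2, z.1.2.2))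
          left_inv := fun _ => rfl
          right_inv := fun _ => rfl }
    · exact
        { toFun := fun z => (⟨(z.1.1.1, z.1.2.1), z.2⟩, (z.1.1.2, z.1.2.2))
          invFun := fun z => ⟨((z.1.1.1, z.2.1), (z.1.1.2, z.2.2)), z.1.2⟩
          left_inv := fun _ => rfl
          right_inv := fun _ => rfl }
  have hT := count_formula hMT hMn hθ
  have hU := count_formula hDU hDn hφ
  rw [← hT, ← hU] at hcard
  refine Nat.eq_of_mul_eq_mul_right (Nat.mul_pos (Nat.mul_pos (Nat.card_pos (α := T))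
    (Nat.card_pos (α := M))) (pow_pos (Nat.card_pos (α := D)) 2)) ?_
  calc _ = Nat.card {χ : IrrCharacter T // Over hMT θ χ} * Nat.card T * Nat.card M *
        Nat.card D ^ 2 := by ring
    _ = Nat.card {χ : IrrCharacter U // Over hDU φ χ} * Nat.card D *
        (Nat.card U * Nat.card M) * Nat.card M := by rw [hcard]; ring
    _ = _ := by rw [← hcT]; ring

end Cfsg.Agent.Lib.RelMcKay
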