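import Cfsg.Prelude.Def_Local
import Cfsg.Agent.Lib.RelMcKay.Fibre
import Cfsg.Agent.Lib.RelMcKay.Pairs

/-!
# The relative count of characters of degree prime to `p` for `p`-solvable groups
-/

set_option autoImplicit false
set_option maxHeartbeats 1000000

namespace Cfsg.Agent.Lib.RelMcKay

open Cfsg
open Cfsg.Agent.Lib
open Cfsg.Agent.Lib.Glauberman (IsInv IsConjBy resSub Normalises charMult isCharacter_resSub
  normGroup)
open scoped commutatorElement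

variable {G : Type*} [Group G] [Finite G] {p : ℕ} [Fact p.Prime] {L K C H S T U : Subgroup G}

omit [Finite G] [Fact p.Prime] in
theorem idx_top (hidx : ¬ p ∣ S.relIndex H) (hST : S ≤ T) (hTH : T ≤ H) : ¬ p ∣ T.relIndex H :=
  fun h => hidx (h.trans ⟨_, ((mul_comm _ _).trans
    (Subgroup.relIndex_mul_relIndex S T H hST hTH)).symm⟩)

omit [Finite G] [Fact p.Prime] in
theorem idx_bot (hidx : ¬ p ∣ S.relIndex H) (hST : S ≤ T) (hTH : T ≤ H) : ¬ p ∣ S.relIndex T :=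
  fun h => hidx (h.trans ⟨_, (Subgroup.relIndex_mul_relIndex S T H hST hTH).symm⟩)

theorem relIndex_lt (hLT : L ≤ T) (hTH : T ≤ H) (hne : ¬ H ≤ T) :
    L.relIndex T < L.relIndex H := by
  rw [← Subgroup.relIndex_mul_relIndex L T H hLT hTH]
  have h1 : 0 < L.relIndex T := Nat.pos_of_ne_zero Subgroup.FiniteIndex.index_ne_zero
  have h2 : T.relIndex H ≠ 0 := Subgroup.FiniteIndex.index_ne_zero
  have h3 : T.relIndex H ≠ 1 := fun e => hne (Subgroup.relIndex_eq_one.1 e)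
  exact (Nat.lt_mul_iff_one_lt_right h1).2 (by omega)

/-- The Frattini argument. -/
theorem exists_frattini (hS : IsPGroup p S) (hST : S ≤ T) (hidx : ¬ p ∣ S.relIndex T) {h : G}
    (hh : Normalises h T) : ∃ t ∈ T, Normalises (t * h) S := by
  set Q := S.map (MulAut.conj h).toMonoidHom
  have hQT : Q ≤ T := by
    rintro _ ⟨x, hx, rfl⟩
    exact (hh x).1 (hST hx)
  have hi : ¬ p ∣ Q.relIndex T := by
    rwa [show Q.relIndex T = S.relIndex T from ?_]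
    refine Nat.eq_of_mul_eq_mul_left (Nat.card_pos (α := S)) ?_
    have hcard : Nat.card Q = Nat.card S := Subgroup.card_map_of_injective (MulAut.conj h).injective
    conv_lhs => arg 1; rw [← hcard]
    exact (card_mul_relIndex hQT).trans (card_mul_relIndex hST).symm
  obtain ⟨t, ht, htQ⟩ := exists_sylow_conj hST hQT hS (hS.map _) hidx hi
  refine ⟨t, ht, Glauberman.normalises_of_mem fun x hx => ?_⟩
  have := htQ _ ⟨x, hx, rfl⟩
  simpa [mul_assoc] using this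

theorem count_eq_over (hKH : K ≤ H) (hn : NormBy H K) (hidx : ¬ p ∣ K.relIndex H)
    {θ : IrrCharacter K} (hθ : ¬ p ∣ deg θ) :
    count p H θ = Nat.card {χ : IrrCharacter H // Over hKH θ χ} := by
  refine Nat.card_congr (Equiv.subtypeEquivRight fun χ => ⟨fun h => h.2.2, fun o => ⟨?_, hKH, o⟩⟩)
  obtain ⟨h1, h2⟩ := ratio_dvd hKH hn o
  rw [← Nat.div_mul_cancel h1, (Fact.out : p.Prime).dvd_mul, not_or]
  exact ⟨fun h => hidx (h.trans h2), hθ⟩

theorem normBy_sup_self (hn : NormBy S K) : NormBy (K ⊔ S) K := (normBy_self K).sup_left hn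

/-- Extensions across `S` and their parameters. -/
theorem param_bij (hS : IsPGroup p S) (hLK : L ≤ K) (hKL : NormBy K L) (hSKL : S ⊓ K ≤ L)
    {ν : IrrCharacter L} (hν : K ≤ stabGroup ν) {θ : IrrCharacter K} (hθS : S ≤ stabGroup θ)
    (hθp : ¬ p ∣ deg θ) (hθν : Over hLK ν θ) :
    ∃ a : {μ : S →* ℂˣ // Par ν μ} →
        {χ : IrrCharacter (K ⊔ S : Subgroup G) // Cand p S le_sup_left θ χ},
      Function.Bijective a ∧ ∀ μ, IsExt le_sup_left θ (a μ).1 ∧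
        HasParam le_sup_right θ (a μ).1 μ.1 := by
  have hres := resSub_eq_smul hLK hKL hν hθν
  choose χ hχe hχμ using fun μ : {μ : S →* ℂˣ // Par ν μ} =>
    exists_ext_param hS hθS hθp ((par_iff hS hLK hSKL hres hθp μ.1).2 μ.2)
  refine ⟨fun μ => ⟨χ μ, by rw [(hχe μ).deg_eq]; exact hθp,
    fun x hx => fixes_of_mem (Subgroup.mem_sup_right hx) _, (hχe μ).over⟩,
    ⟨fun μ μ' e => ?_, fun η => ?_⟩, fun μ => ⟨hχe μ, hχμ μ⟩⟩
  · have e' : χ μ = χ μ' := congrArg Subtype.val e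
    refine Subtype.ext (param_unique hS hθp (hχμ μ) ?_)
    rw [e']
    exact hχμ μ'
  · obtain ⟨hp', -, ho⟩ := η.2
    have hn := normBy_of_stab hθS
    obtain ⟨a, ha⟩ := relIndex_sup_pow hS hn
    have he : IsExt le_sup_left θ η.1 :=
      isExt_of_pPrime Fact.out le_sup_left (normBy_sup hn) ha (sup_le_stab hθS) ho hp'
    obtain ⟨μ, hμP, hμ⟩ := exists_param hS hθp le_sup_left le_sup_right he
    refine ⟨⟨μ, (par_iff hS hLK hSKL hres hθp μ).1 hμP⟩, Subtype.ext ?_⟩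
    exact ext_param_unique hS hθS hθp he hμ (hχe _) (hχμ _)

/-- The standing hypotheses when `K ⊔ S` is normal. -/
structure Split (p : ℕ) (H L K S C : Subgroup G) : Prop where
  hLK : L ≤ K
  hKH : K ≤ H
  hSH : S ≤ H
  hS : IsPGroup p S
  hidx : ¬ p ∣ S.relIndex H
  hHL : NormBy H L
  hHK : NormBy H K
  hHM : NormBy H (K ⊔ S)
  hLKp : ¬ p ∣ L.relIndex K
  hSKL : S ⊓ K ≤ L
  hC : ∀ k, k ∈ C ↔ k ∈ K ∧ ∀ x ∈ S, x * k * x⁻¹ * k⁻¹ ∈ L

namespace Split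

variable (d : Split p H L K S C)
include d

theorem hSK : NormBy S K := d.hHK.mono d.hSH
theorem hSL : NormBy S L := d.hHL.mono d.hSH
theorem hKL : NormBy K L := d.hHL.mono d.hKH
theorem hCK : C ≤ K := fun k hk => ((d.hC k).1 hk).1

theorem hLC : L ≤ C := fun l hl => (d.hC l).2 ⟨d.hLK hl, fun _ hx =>
  L.mul_mem (d.hSL.mem hx hl) (L.inv_mem hl)⟩

theorem inf_le : K ⊓ (L ⊔ S) ≤ L := RelMcKay.inf_sup_le d.hSKL d.hLK d.hSL

theorem sup_le_norm : L ⊔ S ≤ normGroup (L ⊔ S) := le_normGroup_self _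

theorem mem_C (k : G) : k ∈ C ↔ k ∈ K ∧ k ∈ H ⊓ normGroup (L ⊔ S) := by
  constructor
  · intro hk
    obtain ⟨hkK, hk'⟩ := (d.hC k).1 hk
    refine ⟨hkK, d.hKH hkK, Glauberman.normalises_of_mem fun y hy => ?_⟩
    have hle : L ⊔ S ≤ (L ⊔ S).comap (MulAut.conj k).toMonoidHom := by
      refine sup_le (fun l hl => Subgroup.mem_sup_left (d.hKL.mem hkK hl)) fun x hx => ?_
      show k * x * k⁻¹ ∈ L ⊔ S
      have := (L ⊔ S).mul_mem (Subgroup.mem_sup_left (L.inv_mem (hk' x hx)))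
        (Subgroup.mem_sup_right hx)
      simpa [mul_assoc] using this
    exact hle hy
  · rintro ⟨hkK, -, hn⟩
    refine (d.hC k).2 ⟨hkK, fun x hx => d.inf_le ⟨?_, ?_⟩⟩
    · exact K.mul_mem (d.hSK.mem hx hkK) (K.inv_mem hkK)
    · have h1 := (hn x⁻¹).1 (Subgroup.mem_sup_right (S.inv_mem hx))
      have := (L ⊔ S).mul_mem (Subgroup.mem_sup_right hx) h1
      simpa [mul_assoc] using this

theorem hSN : S ≤ H ⊓ normGroup (L ⊔ S) :=
  le_inf d.hSH (le_sup_right.trans d.sup_le_norm)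

theorem hLN : L ≤ H ⊓ normGroup (L ⊔ S) :=
  le_inf (d.hLK.trans d.hKH) (le_sup_left.trans d.sup_le_norm)

theorem hCN : C ≤ H ⊓ normGroup (L ⊔ S) := fun k hk => ((d.mem_C k).1 hk).2

theorem hNC : NormBy (H ⊓ normGroup (L ⊔ S)) C := normBy_of_mem fun n hn c hc => by
  obtain ⟨h1, h2⟩ := (d.mem_C c).1 hc
  exact (d.mem_C _).2 ⟨d.hHK.mem hn.1 h1, Subgroup.mul_mem _ (Subgroup.mul_mem _ hn h2)
    (Subgroup.inv_mem _ hn)⟩

theorem hSC : NormBy S C := d.hNC.mono d.hSN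

theorem hD : C ⊔ S = (H ⊓ normGroup (L ⊔ S)) ⊓ (K ⊔ S) := by
  refine le_antisymm (_root_.le_inf (sup_le d.hCN d.hSN) (sup_le_sup_right d.hCK _)) ?_
  rintro m ⟨hm, hm'⟩
  rw [SetLike.mem_coe, sup_comm] at hm'
  obtain ⟨s, hs, k, hk, rfl⟩ := mem_sup_decomp d.hSK hm'
  refine Subgroup.mul_mem _ (Subgroup.mem_sup_right hs) (Subgroup.mem_sup_left ((d.mem_C k).2 ⟨hk, ?_⟩))
  simpa using Subgroup.mul_mem _ (Subgroup.inv_mem _ (d.hSN hs)) hm

theorem hND : NormBy (H ⊓ normGroup (L ⊔ S)) (C ⊔ S) := by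
  rw [d.hD]
  exact normBy_of_mem fun n hn x hx =>
    ⟨Subgroup.mul_mem _ (Subgroup.mul_mem _ hn hx.1) (Subgroup.inv_mem _ hn),
      d.hHM.mem hn.1 hx.2⟩

theorem normS_le : H ⊓ normGroup S ≤ H ⊓ normGroup (L ⊔ S) := fun g hg =>
  ⟨hg.1, normalises_sup (d.hHL g hg.1) hg.2⟩

theorem decompH {h : G} (hh : h ∈ H) :
    ∃ m ∈ K ⊔ S, ∃ n ∈ H ⊓ normGroup S, h = m * n := by
  obtain ⟨t, ht, htn⟩ := exists_frattini d.hS (le_sup_right : S ≤ K ⊔ S)
    (idx_bot d.hidx le_sup_right (sup_le d.hKH d.hSH)) (d.hHM h hh)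
  exact ⟨t⁻¹, Subgroup.inv_mem _ ht, t * h,
    ⟨H.mul_mem (sup_le d.hKH d.hSH ht) hh, htn⟩, by simp⟩

theorem decompN {h : G} (hh : h ∈ H ⊓ normGroup (L ⊔ S)) :
    ∃ l ∈ L, ∃ n ∈ H ⊓ normGroup S, h = l * n := by
  obtain ⟨t, ht, htn⟩ := exists_frattini d.hS (le_sup_right : S ≤ L ⊔ S)
    (idx_bot d.hidx le_sup_right (sup_le (d.hLK.trans d.hKH) d.hSH)) hh.2
  have ht' := (L ⊔ S).inv_mem ht
  rw [sup_comm] at ht'
  obtain ⟨s, hs, l, hl, e⟩ := mem_sup_decomp d.hSL ht'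
  refine ⟨s * l * s⁻¹, d.hSL.mem hs hl, s * (t * h), ⟨H.mul_mem (d.hSH hs)
    (H.mul_mem (sup_le (d.hLK.trans d.hKH) d.hSH ht) hh.1), (normalises_self hs).mul htn⟩, ?_⟩
  rw [show s * l * s⁻¹ * (s * (t * h)) = s * l * t * h by group, ← e]
  group

/-- The comparison for one extension. -/
theorem inner_ext {ν : IrrCharacter L} (hν : H ≤ stabGroup ν) {θ : IrrCharacter K}
    (hθS : S ≤ stabGroup θ) (hθp : ¬ p ∣ deg θ) (hθν : Over d.hLK ν θ) {φ : IrrCharacter C}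
    (hφS : S ≤ stabGroup φ) (hφp : ¬ p ∣ deg φ) (hμ : SylowCorr.μ p d.hCK θ φ ≠ 0)
    (hfix : ∀ g ∈ H ⊓ normGroup S, Fixes g θ ↔ Fixes g φ) {μ : S →* ℂˣ} (hPar : Par ν μ)
    {χ : IrrCharacter (K ⊔ S : Subgroup G)} (hχe : IsExt le_sup_left θ χ)
    (hχμ : HasParam le_sup_right θ χ μ)
    {ξ : IrrCharacter (C ⊔ S : Subgroup G)} (hξe : IsExt le_sup_left φ ξ)
    (hξμ : HasParam le_sup_right φ ξ μ) :
    count p (H ⊓ stabGroup θ ⊓ stabGroup χ) χ =
      count p (H ⊓ normGroup (L ⊔ S) ⊓ stabGroup φ ⊓ stabGroup ξ) ξ := by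
  set N := H ⊓ normGroup (L ⊔ S)
  set T₂ := H ⊓ stabGroup θ ⊓ stabGroup χ with hT₂
  set U₂ := N ⊓ stabGroup φ ⊓ stabGroup ξ with hU₂
  have hMT : K ⊔ S ≤ T₂ := _root_.le_inf (_root_.le_inf (sup_le d.hKH d.hSH) (sup_le_stab hθS))
    (le_stabGroup χ)
  have hDU : C ⊔ S ≤ U₂ := _root_.le_inf (_root_.le_inf (sup_le d.hCN d.hSN) (sup_le_stab hφS))
    (le_stabGroup ξ)
  have hboth : ∀ n ∈ H ⊓ normGroup S, n ∈ T₂ ↔ n ∈ U₂ := by
    intro n hn
    constructor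
    · rintro ⟨⟨-, h1⟩, h2⟩
      have h1' := (hfix n hn).1 h1
      exact ⟨⟨d.normS_le hn, h1'⟩, (fixes_ext_iff d.hS hφS hφp hξe hξμ h1' hn.2).2
        ((fixes_ext_iff d.hS hθS hθp hχe hχμ h1 hn.2).1 h2)⟩
    · rintro ⟨⟨-, h1⟩, h2⟩
      have h1' := (hfix n hn).2 h1
      exact ⟨⟨hn.1, h1'⟩, (fixes_ext_iff d.hS hθS hθp hχe hχμ h1' hn.2).2
        ((fixes_ext_iff d.hS hφS hφp hξe hξμ h1 hn.2).1 h2)⟩
  have hUN : U₂ ≤ N := inf_le_left.trans inf_le_left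
  have hTH : T₂ ≤ H := inf_le_left.trans inf_le_left
  have hdecU : ∀ u ∈ U₂, ∃ l ∈ L, ∃ n ∈ U₂ ⊓ normGroup S, u = l * n := by
    intro u hu
    obtain ⟨l, hl, n, hn, rfl⟩ := d.decompN (hUN hu)
    refine ⟨l, hl, n, ⟨?_, hn.2⟩, rfl⟩
    simpa using U₂.mul_mem (U₂.inv_mem (hDU (Subgroup.mem_sup_left (d.hLC hl)))) hu
  have hUT : U₂ ≤ T₂ := by
    intro u hu
    obtain ⟨l, hl, n, hn, rfl⟩ := hdecU u hu
    exact T₂.mul_mem (hMT (Subgroup.mem_sup_left (d.hLK hl)))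
      ((hboth n ⟨(hUN hn.1).1, hn.2⟩).2 hn.1)
  have hdec : ∀ t ∈ T₂, ∃ u ∈ U₂, u⁻¹ * t ∈ K ⊔ S := by
    intro t ht
    obtain ⟨m, hm, n, hn, rfl⟩ := d.decompH (hTH ht)
    refine ⟨n, (hboth n hn).1 (by simpa using T₂.mul_mem (T₂.inv_mem (hMT hm)) ht), ?_⟩
    have := d.hHM.mem (H.inv_mem hn.1) hm
    simpa [mul_assoc] using this
  have hUM : U₂ ⊓ (K ⊔ S) = C ⊔ S := by
    refine le_antisymm ?_ (_root_.le_inf hDU (sup_le_sup_right d.hCK _))
    rw [d.hD]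
    exact inf_le_inf_right _ hUN
  have hi : ¬ p ∣ (K ⊔ S).relIndex T₂ := idx_top (idx_bot d.hidx (le_sup_right.trans hMT) hTH)
    le_sup_right hMT
  have hi' : ¬ p ∣ (C ⊔ S).relIndex U₂ := idx_top
    (idx_bot d.hidx (le_sup_right.trans hDU) (hUN.trans inf_le_left)) le_sup_right hDU
  rw [count_eq_over hMT (d.hHM.mono hTH) hi (by rw [hχe.deg_eq]; exact hθp),
    count_eq_over hDU (d.hND.mono hUN) hi' (by rw [hξe.deg_eq]; exact hφp)]
  refine over_card_eq hUT hMT hDU (d.hHM.mono hTH) (d.hND.mono hUN) hUM hdec inf_le_right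
    inf_le_right fun g hg h hh hgh => ?_
  set W := (C ⊔ S) ⊔ Subgroup.zpowers h ⊔ Subgroup.zpowers g with hWdef
  have hW : W ≤ U₂ := sup_le (sup_le hDU (Subgroup.zpowers_le.2 hh)) (Subgroup.zpowers_le.2 hg)
  have hWD : C ⊔ S ≤ W := le_sup_left.trans le_sup_left
  have hWab := comm_of_two (d.hND.mono (hW.trans hUN))
    (Subgroup.mem_sup_left (Subgroup.mem_sup_right (Subgroup.mem_zpowers h)))
    (Subgroup.mem_sup_right (Subgroup.mem_zpowers g)) le_rfl hgh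
  set U₀ := W ⊓ normGroup S with hU₀
  have hSU₀ : S ≤ U₀ := _root_.le_inf (le_sup_right.trans hWD) (le_normGroup_self S)
  haveI : (S.subgroupOf U₀).Normal := NormBy.normal (fun g hg => hg.2)
  have hU₀H : U₀ ≤ H := inf_le_left.trans ((hW.trans hUN).trans inf_le_left)
  have hcop : (Nat.card (S.subgroupOf U₀)).Coprime (S.subgroupOf U₀).index := by
    rw [Nat.card_congr (Subgroup.subgroupOfEquivOfLe hSU₀).toEquiv]
    obtain ⟨a, ha⟩ := IsPGroup.iff_card.1 d.hS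
    rw [ha]
    exact Nat.Coprime.pow_left a ((Fact.out : p.Prime).coprime_iff_not_dvd.2
      (idx_bot d.hidx hSU₀ hU₀H))
  obtain ⟨R', hR'⟩ := Subgroup.exists_right_complement'_of_coprime hcop
  set R := R'.map U₀.subtype
  have hRU₀ : R ≤ U₀ := Subgroup.map_subtype_le _
  have hRp : ¬ p ∣ Nat.card R := by
    rw [Subgroup.card_map_of_injective U₀.subtype_injective, ← hR'.symm.index_eq_card]
    exact idx_bot d.hidx hSU₀ hU₀H
  have hU₀R : U₀ ≤ S ⊔ R := by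
    intro x hx
    have h1 : (⟨x, hx⟩ : U₀) ∈ S.subgroupOf U₀ ⊔ R' := by rw [hR'.sup_eq_top]; trivial
    have hle : S.subgroupOf U₀ ⊔ R' ≤ (S ⊔ R).comap U₀.subtype :=
      sup_le (fun y hy => Subgroup.mem_sup_left hy)
        fun y hy => Subgroup.mem_sup_right ⟨y, hy, rfl⟩
    exact hle h1
  have hRW : R ≤ W := hRU₀.trans inf_le_left
  have hWR : W = (C ⊔ S) ⊔ R := by
    refine le_antisymm (fun w hw => ?_) (sup_le hWD hRW)
    obtain ⟨l, hl, n, hn, rfl⟩ := d.decompN (hUN (hW hw))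
    have hlD : l ∈ C ⊔ S := Subgroup.mem_sup_left (d.hLC hl)
    refine Subgroup.mul_mem _ (Subgroup.mem_sup_left hlD) ?_
    have hn' : n ∈ U₀ := ⟨by simpa using W.mul_mem (W.inv_mem (hWD hlD)) hw, hn.2⟩
    exact sup_le_sup_right (le_sup_right : S ≤ C ⊔ S) R (hU₀R hn')
  have hMW : (K ⊔ S) ⊔ Subgroup.zpowers h ⊔ Subgroup.zpowers g = (K ⊔ S) ⊔ R := by
    have h1 : C ⊔ S ≤ K ⊔ S := sup_le_sup_right d.hCK _
    have h2 : (K ⊔ S) ⊔ W = (K ⊔ S) ⊔ Subgroup.zpowers h ⊔ Subgroup.zpowers g := by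
      rw [hWdef, ← sup_assoc, ← sup_assoc, sup_eq_left.2 h1]
    rw [← h2, hWR, ← sup_assoc, sup_eq_left.2 h1]
  have hRU : R ≤ U₂ := hRW.trans hW
  have hRH : R ≤ H := hRU₀.trans hU₀H
  have hRS : NormBy R S := fun r hr => (hRU₀ hr).2
  have hRθ : R ≤ stabGroup θ := fun r hr => (hUT (hRU hr)).1.2
  have hRφ : R ≤ stabGroup φ := fun r hr => (hRU hr).1.2
  have hRχ : R ≤ stabGroup χ := fun r hr => (hUT (hRU hr)).2
  have hRξ : R ≤ stabGroup ξ := fun r hr => (hRU hr).2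
  have hRC : NormBy R C := d.hNC.mono (hRU.trans hUN)
  have hRR : ∀ r ∈ R, ∀ r' ∈ R, r * r' * r⁻¹ * r'⁻¹ ∈ C := fun r hr r' hr' =>
    inf_sup_le_of_pPower d.hS hRp hRC d.hSC ⟨Subgroup.mem_sup_right
      (R.mul_mem (R.mul_mem (R.mul_mem hr hr') (R.inv_mem hr)) (R.inv_mem hr')),
      hWab r (hRW hr) r' (hRW hr')⟩
  rw [hMW, hWR,
    ext_iff_of_restrict (le_sup_left : K ≤ K ⊔ S) (le_sup_left : K ≤ K ⊔ R) le_sup_left
      (sup_le_sup_right le_sup_left R)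
      (inf_sup_le_of_pPower d.hS hRp (d.hHK.mono hRH) d.hSK)
      (sup_le le_sup_right (le_sup_right.trans le_sup_left))
      ((normBy_self (K ⊔ S)).sup_left (d.hHM.mono hRH)) (sup_le (le_stabGroup χ) hRχ) hχe,
    ext_iff_of_restrict (le_sup_left : C ≤ C ⊔ S) (le_sup_left : C ≤ C ⊔ R) le_sup_left
      (sup_le_sup_right le_sup_left R)
      (inf_sup_le_of_pPower d.hS hRp hRC d.hSC)
      (sup_le le_sup_right (le_sup_right.trans le_sup_left))
      ((normBy_self (C ⊔ S)).sup_left (d.hND.mono (hRU.trans hUN)))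
      (sup_le (le_stabGroup ξ) hRξ) hξe]
  exact key _ S R C K L rfl d.hS hRp d.hLK d.hKL d.hSK d.hSL (d.hHK.mono hRH) (d.hHL.mono hRH)
    hRS d.hSKL d.hLKp d.hCK d.hC hRR ν (d.hKH.trans hν) θ hθS hRθ hθν hθp φ hφS hRφ hμ hφp μ hPar
    fun r hr => (fixes_ext_iff d.hS hθS hθp hχe hχμ (hRθ hr) (hRS r hr)).1 (hRχ hr)

/-- The comparison for one pair of correspondents. -/
theorem inner {ν : IrrCharacter L} (hν : H ≤ stabGroup ν) {θ : IrrCharacter K}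
    (hθS : S ≤ stabGroup θ) (hθp : ¬ p ∣ deg θ) (hθν : Over d.hLK ν θ) {φ : IrrCharacter C}
    (hφS : S ≤ stabGroup φ) (hφp : ¬ p ∣ deg φ) (hφν : Over d.hLC ν φ)
    (hμ : SylowCorr.μ p d.hCK θ φ ≠ 0)
    (hfix : ∀ g ∈ H ⊓ normGroup S, Fixes g θ ↔ Fixes g φ) :
    count p (H ⊓ stabGroup θ) θ = count p (H ⊓ normGroup (L ⊔ S) ⊓ stabGroup φ) φ := by
  set N := H ⊓ normGroup (L ⊔ S)
  set T := H ⊓ stabGroup θ
  set U := N ⊓ stabGroup φ
  have hST : S ≤ T := _root_.le_inf d.hSH hθS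
  have hSU : S ≤ U := _root_.le_inf d.hSN hφS
  have hT := fibre (L := K) (K := K ⊔ S) (H := T) (ν := θ) le_sup_left
    (sup_le (_root_.le_inf d.hKH (le_stabGroup θ)) hST) (d.hHK.mono inf_le_left)
    (d.hHM.mono inf_le_left) hST d.hS (idx_bot d.hidx hST inf_le_left) inf_le_right
  have hU := fibre (L := C) (K := C ⊔ S) (H := U) (ν := φ) le_sup_left
    (sup_le (_root_.le_inf d.hCN (le_stabGroup φ)) hSU) (d.hNC.mono inf_le_left)
    (d.hND.mono inf_le_left) hSU d.hS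
    (idx_bot d.hidx hSU (inf_le_left.trans inf_le_left)) inf_le_right
  have hN₀ : T ⊓ normGroup S = U ⊓ normGroup S := by
    ext g
    constructor
    · rintro ⟨⟨h1, h2⟩, h3⟩
      exact ⟨⟨d.normS_le ⟨h1, h3⟩, (hfix g ⟨h1, h3⟩).1 h2⟩, h3⟩
    · rintro ⟨⟨h1, h2⟩, h3⟩
      exact ⟨⟨h1.1, (hfix g ⟨h1.1, h3⟩).2 h2⟩, h3⟩
  obtain ⟨a, ha, ha'⟩ := param_bij d.hS d.hLK d.hKL d.hSKL (d.hKH.trans hν) hθS hθp hθν
  obtain ⟨b, hb, hb'⟩ := param_bij d.hS d.hLC (d.hKL.mono d.hCK)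
    ((inf_le_inf_left S d.hCK).trans d.hSKL) (d.hCK.trans (d.hKH.trans hν)) hφS hφp hφν
  refine Nat.eq_of_mul_eq_mul_right (Nat.card_pos (α := (T ⊓ normGroup S : Subgroup G))) ?_
  rw [hT, hN₀, hU, ← finsum_eq_of_bijective a ha (fun _ => rfl),
    ← finsum_eq_of_bijective b hb (fun _ => rfl)]
  refine finsum_congr fun μ => ?_
  obtain ⟨hχe, hχμ⟩ := ha' μ
  obtain ⟨hξe, hξμ⟩ := hb' μ
  have hst : T ⊓ normGroup S ⊓ stabGroup (a μ).1 = U ⊓ normGroup S ⊓ stabGroup (b μ).1 := by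
    ext g
    constructor
    · rintro ⟨h, h'⟩
      have hgθ : Fixes g θ := h.1.2
      have hgφ : Fixes g φ := (hN₀.le h).1.2
      exact ⟨hN₀.le h, (fixes_ext_iff d.hS hφS hφp hξe hξμ hgφ h.2).2
        ((fixes_ext_iff d.hS hθS hθp hχe hχμ hgθ h.2).1 h')⟩
    · rintro ⟨h, h'⟩
      have hgθ : Fixes g θ := (hN₀.ge h).1.2
      have hgφ : Fixes g φ := h.1.2
      exact ⟨hN₀.ge h, (fixes_ext_iff d.hS hθS hθp hχe hχμ hgθ h.2).2
        ((fixes_ext_iff d.hS hφS hφp hξe hξμ hgφ h.2).1 h')⟩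
  rw [← hN₀] at *
  rw [d.inner_ext hν hθS hθp hθν hφS hφp hμ hfix μ.2 hχe hχμ hξe hξμ, hst]

/-- The count when `K ⊔ S` is normal. -/
theorem count_eq {ν : IrrCharacter L} (hν : H ≤ stabGroup ν) :
    count p H ν = count p (H ⊓ normGroup (L ⊔ S)) ν := by
  have hp : p.Prime := Fact.out
  set N := H ⊓ normGroup (L ⊔ S)
  obtain ⟨f, hf⟩ := exists_cor' d.hKL d.hLKp d.hS d.hSK d.hSL d.hCK d.hC
  have hdeg : ∀ χ, (¬ p ∣ deg χ.1 ↔ ¬ p ∣ deg (f χ).1) := by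
    intro χ
    rw [← ZMod.natCast_eq_zero_iff, ← ZMod.natCast_eq_zero_iff]
    rcases hf.degree d.hS d.hSK d.hSC χ with e | e
    · exact not_congr (by rw [show (deg (f χ).1 : ZMod p) = (deg χ.1 : ZMod p) from e])
    · exact not_congr (by
        rw [show (deg (f χ).1 : ZMod p) = -(deg χ.1 : ZMod p) from e, neg_eq_zero])
  have hov : ∀ χ : SylowCorr.InvIrr S K, (Over d.hLK ν χ.1 ↔ Over d.hLC ν (f χ).1) := fun χ =>
    ⟨fun o => over_down d.hLC d.hCK d.hKL (d.hKH.trans hν) (over_of_mu (cor_mu_ne hf χ)) o,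
      fun o => o.trans (over_of_mu (cor_mu_ne hf χ))⟩
  let e : {θ : IrrCharacter K // Cand p S d.hLK ν θ} → {φ : IrrCharacter C // Cand p S d.hLC ν φ} :=
    fun θ => ⟨(f ⟨θ.1, isInv_of_le_stab θ.2.2.1⟩).1, (hdeg _).1 θ.2.1,
      le_stab_of_isInv d.hSC (f _).2, (hov ⟨θ.1, isInv_of_le_stab θ.2.2.1⟩).1 θ.2.2.2⟩
  have he : Function.Bijective e := by
    refine ⟨fun θ θ' h => ?_, fun φ => ?_⟩
    · have := hf.1.1 (Subtype.ext (show (f ⟨θ.1, isInv_of_le_stab θ.2.2.1⟩).1 =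
        (f ⟨θ'.1, isInv_of_le_stab θ'.2.2.1⟩).1 from congrArg (fun z : {φ : IrrCharacter C // Cand p S d.hLC ν φ} => z.1) h))
      exact Subtype.ext (congrArg (fun z : SylowCorr.InvIrr S K => z.1) this)
    · obtain ⟨χ, hχ⟩ := hf.1.2 ⟨φ.1, isInv_of_le_stab φ.2.2.1⟩
      refine ⟨⟨χ.1, (hdeg χ).2 (by rw [hχ]; exact φ.2.1), le_stab_of_isInv d.hSK χ.2,
        (hov χ).2 (by rw [hχ]; exact φ.2.2.2)⟩, Subtype.ext ?_⟩
      show (f χ).1 = φ.1
      rw [hχ]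
  have hH := fibre d.hLK d.hKH d.hHL d.hHK d.hSH d.hS d.hidx hν
  have hN := fibre d.hLC d.hCN (d.hHL.mono inf_le_left) d.hNC d.hSN d.hS
    (idx_bot d.hidx d.hSN inf_le_left) (inf_le_left.trans hν)
  have hN₀ : N ⊓ normGroup S = H ⊓ normGroup S :=
    le_antisymm (inf_le_inf_right _ inf_le_left) (_root_.le_inf d.normS_le inf_le_right)
  rw [hN₀] at hN
  refine Nat.eq_of_mul_eq_mul_right (Nat.card_pos (α := (H ⊓ normGroup S : Subgroup G))) ?_
  rw [hH, hN]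
  refine finsum_eq_of_bijective e he fun θ => ?_
  let θ' : SylowCorr.InvIrr S K := ⟨θ.1, isInv_of_le_stab θ.2.2.1⟩
  have hfix : ∀ g ∈ H ⊓ normGroup S, (Fixes g θ.1 ↔ Fixes g (f θ').1) := fun g hg =>
    cor_fixes_iff hf (d.hHK g hg.1) (d.hNC g (d.normS_le hg)) hg.2 d.hSK d.hSC θ'
  have hst : H ⊓ normGroup S ⊓ stabGroup θ.1 = H ⊓ normGroup S ⊓ stabGroup (e θ).1 := by
    ext g
    exact ⟨fun h => ⟨h.1, (hfix g h.1).1 h.2⟩, fun h => ⟨h.1, (hfix g h.1).2 h.2⟩⟩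
  rw [hst, d.inner hν θ.2.2.1 θ.2.1 θ.2.2.2 (e θ).2.2.1 (e θ).2.1 (e θ).2.2.2 (cor_mu_ne hf θ')
    hfix]

end Split

/-- The theorem. -/
theorem main (hG : IsPSolvable p G) (n : ℕ) : ∀ L H S : Subgroup G, L.relIndex H = n → L ≤ H →
    NormBy H L → S ≤ H → IsPGroup p S → ¬ p ∣ S.relIndex H → ∀ ν : IrrCharacter L,
    S ≤ stabGroup ν → count p H ν = count p (H ⊓ normGroup (L ⊔ S)) ν := by
  induction n using Nat.strong_induction_on with | _ n ih => ?_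
  intro L H S hn hLH hHL hSH hS hidx ν hνS
  have hp : p.Prime := Fact.out
  set N := H ⊓ normGroup (L ⊔ S)
  have hLN : L ≤ N := le_inf hLH (le_sup_left.trans (le_normGroup_self _))
  have hSN : S ≤ N := le_inf hSH (le_sup_right.trans (le_normGroup_self _))
  have hNL : NormBy N L := hHL.mono inf_le_left
  by_cases hνp : p ∣ deg ν
  · rw [count_eq_zero hHL hνp, count_eq_zero hNL hνp]
  by_cases hνH : H ≤ stabGroup ν
  swap
  · set T := H ⊓ stabGroup ν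
    have hLT : L ≤ T := le_inf hLH (le_stabGroup ν)
    have hST : S ≤ T := le_inf hSH hνS
    have hlt : L.relIndex T < n :=
      hn ▸ relIndex_lt hLT inf_le_left fun h => hνH (h.trans inf_le_right)
    rw [← count_stab hLH hHL ν (idx_top hidx hST inf_le_left),
      ih _ hlt L T S rfl hLT (hHL.mono inf_le_left) hST hS (idx_bot hidx hST inf_le_left) ν hνS,
      ← count_stab hLN hNL ν (idx_top (idx_bot hidx hSN inf_le_left) (le_inf hSN hνS) inf_le_left)]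
    rw [show T ⊓ normGroup (L ⊔ S) = N ⊓ stabGroup ν from inf_right_comm _ _ _]
  by_cases hHN : H ≤ normGroup (L ⊔ S)
  · rw [show N = H from inf_eq_left.2 hHN]
  obtain ⟨m, Hs, h0, hlast, hmono, hnorm, hstep⟩ := hG
  have hne : L ≠ H := by
    rintro rfl
    exact hHN fun g hg => normalises_self (Subgroup.mem_sup_left hg)
  obtain ⟨i, hi, hi'⟩ : ∃ i : Fin m,
      Hs i.castSucc ⊓ H ⊔ L = L ∧ Hs i.succ ⊓ H ⊔ L ≠ L := by
    by_contra hall
    push Not at hall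
    have : ∀ j : Fin (m + 1), Hs j ⊓ H ⊔ L = L := fun j => by
      induction j using Fin.induction with
      | zero => rw [h0, bot_inf_eq, bot_sup_eq]
      | succ i hi => exact hall i hi
    have e := this (Fin.last m)
    rw [hlast, top_inf_eq, sup_eq_left.2 hLH] at e
    exact hne e.symm
  set K := Hs i.succ ⊓ H ⊔ L
  have hLK : L ≤ K := le_sup_right
  have hKH : K ≤ H := sup_le inf_le_right hLH
  have hHK : NormBy H K := by
    refine NormBy.sup (fun g hg => Glauberman.normalises_of_mem fun x hx => ⟨?_, ?_⟩) hHL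
    · exact (hnorm i.succ).conj_mem x hx.1 g
    · exact H.mul_mem (H.mul_mem hg hx.2) (H.inv_mem hg)
  have hdvd : L.relIndex K ∣ (Hs i.castSucc).relIndex (Hs i.succ) := by
    set X := Hs i.succ ⊓ H
    have hY : Hs i.castSucc ⊓ H ≤ L := sup_eq_right.1 hi
    haveI := hnorm i.castSucc
    calc L.relIndex K ∣ (Hs i.castSucc ⊓ H).relIndex X :=
          relIndex_sup_dvd (hHL.mono inf_le_right) hY
      _ ∣ (Hs i.castSucc).relIndex (Hs i.succ) := by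
          rw [show (Hs i.castSucc ⊓ H).relIndex X = (Hs i.castSucc).relIndex X from ?_]
          · rw [← Subgroup.relIndex_sup_right]
            refine ⟨_, (Subgroup.relIndex_mul_relIndex _ _ _ le_sup_right
              (sup_le inf_le_left ?_)).symm⟩
            exact hmono (Fin.castSucc_le_succ i)
          · rw [← Subgroup.inf_relIndex_right, inf_assoc, inf_eq_right.2 (inf_le_right : X ≤ H),
              Subgroup.inf_relIndex_right]
  have hLK1 : ¬ K ≤ L := fun h => hi' (le_antisymm h hLK)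
  have hKlt : K.relIndex H < n := by
    rw [← hn, ← Subgroup.relIndex_mul_relIndex L K H hLK hKH]
    have h1 : 0 < K.relIndex H := Nat.pos_of_ne_zero Subgroup.FiniteIndex.index_ne_zero
    have h2 : L.relIndex K ≠ 0 := Subgroup.FiniteIndex.index_ne_zero
    have h3 : L.relIndex K ≠ 1 := fun e => hLK1 (Subgroup.relIndex_eq_one.1 e)
    exact (Nat.lt_mul_iff_one_lt_left h1).2 (by omega)
  set N₁ := H ⊓ normGroup (K ⊔ S)
  have hKN₁ : K ≤ N₁ := le_inf hKH (le_sup_left.trans (le_normGroup_self _))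
  have hSN₁ : S ≤ N₁ := le_inf hSH (le_sup_right.trans (le_normGroup_self _))
  -- through `K`
  have hstep1 : count p H ν = count p N₁ ν := by
    have hH := fibre hLK hKH hHL hHK hSH hS hidx hνH
    have hN₁ := fibre hLK hKN₁ (hHL.mono inf_le_left) (hHK.mono inf_le_left) hSN₁ hS
      (idx_bot hidx hSN₁ inf_le_left) (inf_le_left.trans hνH)
    have hN₀ : N₁ ⊓ normGroup S = H ⊓ normGroup S :=
      le_antisymm (inf_le_inf_right _ inf_le_left) (le_inf (fun g hg =>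
        ⟨hg.1, normalises_sup (hHK g hg.1) hg.2⟩) inf_le_right)
    rw [hN₀] at hN₁
    refine Nat.eq_of_mul_eq_mul_right (Nat.card_pos (α := (H ⊓ normGroup S : Subgroup G))) ?_
    rw [hH, hN₁]
    refine finsum_congr fun θ => ?_
    have hST : S ≤ H ⊓ stabGroup θ.1 := le_inf hSH θ.2.2.1
    have hKT : K ≤ H ⊓ stabGroup θ.1 := le_inf hKH (le_stabGroup _)
    have hlt : K.relIndex (H ⊓ stabGroup θ.1) < n := lt_of_le_of_lt
      (Subgroup.relIndex_le_of_le_right inf_le_left Subgroup.FiniteIndex.index_ne_zero) hKlt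
    rw [ih _ hlt K _ S rfl hKT (hHK.mono inf_le_left) hST hS (idx_bot hidx hST inf_le_left) θ.1
      θ.2.2.1, show H ⊓ stabGroup θ.1 ⊓ normGroup (K ⊔ S) = N₁ ⊓ stabGroup θ.1 from
        inf_right_comm _ _ _]
  rw [hstep1]
  -- the two kinds of layer
  have hkind : (∃ a, L.relIndex K = p ^ a) ∨ ¬ p ∣ L.relIndex K := by
    rcases hstep i with ⟨a, ha⟩ | hc
    · obtain ⟨b, -, hb⟩ := (Nat.dvd_prime_pow hp).1 (ha ▸ hdvd)
      exact Or.inl ⟨b, hb⟩
    · exact Or.inr fun h => hp.ne_one (Nat.eq_one_of_dvd_coprimes hc (h.trans hdvd) dvd_rfl)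
  rcases hkind with ⟨a, ha⟩ | hLKp
  · suffices e : K ⊔ S = L ⊔ S by rw [show N₁ = N by simp only [N₁, N, e]]
    refine le_antisymm ?_ (sup_le_sup_right hLK S)
    obtain ⟨b, hb⟩ := relIndex_sup_pow hS (hHK.mono hSH)
    have h1 : L.relIndex (K ⊔ S) = p ^ (a + b) := by
      rw [← Subgroup.relIndex_mul_relIndex L K _ hLK le_sup_left, ha, hb, pow_add]
    have h2 : (L ⊔ S).relIndex (K ⊔ S) ∣ p ^ (a + b) := h1 ▸
      ⟨_, ((mul_comm _ _).trans (Subgroup.relIndex_mul_relIndex L (L ⊔ S) (K ⊔ S) le_sup_left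
        (sup_le_sup_right hLK S))).symm⟩
    have h3 : ¬ p ∣ (L ⊔ S).relIndex (K ⊔ S) := idx_top
      (idx_bot hidx (le_sup_right : S ≤ K ⊔ S) (sup_le hKH hSH)) le_sup_right
      (sup_le_sup_right hLK S)
    obtain ⟨c, -, hc⟩ := (Nat.dvd_prime_pow hp).1 h2
    rcases c with _ | c
    · exact Subgroup.relIndex_eq_one.1 (by simpa using hc)
    · exact absurd (hc ▸ dvd_pow_self p c.succ_ne_zero) h3
  by_cases hN₁ : H ≤ normGroup (K ⊔ S)
  swap
  · have hlt : L.relIndex N₁ < n :=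
      hn ▸ relIndex_lt (hLK.trans hKN₁) inf_le_left fun h => hN₁ (h.trans inf_le_right)
    rw [ih _ hlt L N₁ S rfl (hLK.trans hKN₁) (hHL.mono inf_le_left) hSN₁ hS
      (idx_bot hidx hSN₁ inf_le_left) ν hνS]
    congr 1
    refine le_antisymm (inf_le_inf_right _ inf_le_left) (le_inf (le_inf inf_le_left ?_) inf_le_right)
    intro g hg
    have h1 := normalises_sup (hHK g hg.1) hg.2
    rwa [show K ⊔ (L ⊔ S) = K ⊔ S by rw [← sup_assoc, sup_eq_left.2 hLK]] at h1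
  rw [show N₁ = H from inf_eq_left.2 hN₁]
  have hSKL : S ⊓ K ≤ L := by
    rintro x ⟨hx, hxK⟩
    haveI := (hHL.mono hKH).normal
    obtain ⟨b, hb⟩ := hS ⟨x, hx⟩
    have h1 : x ^ p ^ b = 1 := congrArg Subtype.val hb
    have h2 : x ^ L.relIndex K ∈ L :=
      Subgroup.mem_subgroupOf.1 (Subgroup.pow_index_mem (L.subgroupOf K) ⟨x, hxK⟩)
    obtain ⟨c, hc⟩ := exists_pow_eq_self_of_coprime (x := x) (n := L.relIndex K)
      (Nat.Coprime.coprime_dvd_right (orderOf_dvd_of_pow_eq_one h1)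
        (Nat.Coprime.pow_right b ((hp.coprime_iff_not_dvd.2 hLKp).symm)))
    show x ∈ L
    rw [← hc]
    exact L.pow_mem h2 c
  exact Split.count_eq (C := SylowCorr.fixIn K L S fun k hk q hq => hHL.mem (hKH hk) hq)
    ⟨hLK, hKH, hSH, hS, hidx, hHL, hHK, fun g hg => hN₁ hg, hLKp, hSKL,
      fun _ => SylowCorr.mem_fixIn⟩ hνH

end Cfsg.Agent.Lib.RelMcKay
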