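import Cfsg.Agent.Lib.RelMcKay.Basic

/-!
# Extensions across a `p`-group and their determinantal parameters
-/

set_option autoImplicit false
set_option maxHeartbeats 1000000

namespace Cfsg.Agent.Lib.RelMcKay

open Cfsg
open Cfsg.Agent.Lib
open Cfsg.Agent.Lib.Glauberman (IsInv IsConjBy resSub Normalises charMult isCharacter_resSub)

variable {G : Type*} [Group G] [Finite G] {p : ℕ} [Fact p.Prime] {L K M S : Subgroup G}

/-- `μ` is a parameter for the extensions of `θ` by `S`. -/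
def Par (θ : IrrCharacter K) (μ : S →* ℂˣ) : Prop :=
  ∀ (x : S) (hx : (x : G) ∈ K), μ x ^ deg θ = DetHom.det (θ : K → ℂ) ⟨x, hx⟩

/-- The parameter of an extension. -/
def HasParam (hSM : S ≤ M) (θ : IrrCharacter K) (χ : IrrCharacter M) (μ : S →* ℂˣ) : Prop :=
  ∀ x : S, DetHom.det (χ : M → ℂ) (Subgroup.inclusion hSM x) = μ x ^ deg θ

/-- `μ` is invariant under `g`. -/
def MuInv (g : G) (μ : S →* ℂˣ) : Prop :=
  ∀ x x' : S, (x' : G) = g * x * g⁻¹ → μ x' = μ x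

theorem eq_one_of_pow_eq_one (hS : IsPGroup p S) {d : ℕ} (hd : ¬ p ∣ d) (f : S →* ℂˣ) (x : S)
    (h : f x ^ d = 1) : f x = 1 := by
  obtain ⟨a, ha⟩ := hS x
  have h1 : f x ^ p ^ a = 1 := by rw [← map_pow, ha, map_one]
  refine orderOf_eq_one_iff.1 (Nat.eq_one_of_dvd_coprimes ?_ (orderOf_dvd_of_pow_eq_one h1)
    (orderOf_dvd_of_pow_eq_one h))
  exact Nat.Coprime.pow_left a ((Fact.out : p.Prime).coprime_iff_not_dvd.2 hd)

theorem eq_of_pow_eq (hS : IsPGroup p S) {d : ℕ} (hd : ¬ p ∣ d) {μ μ' : S →* ℂˣ}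
    (h : ∀ x, μ x ^ d = μ' x ^ d) : μ = μ' := by
  refine MonoidHom.ext fun x => div_eq_one.1 ?_
  have := eq_one_of_pow_eq_one hS hd (μ / μ') x
    (by rw [MonoidHom.div_apply, div_pow, h, div_self'])
  rwa [MonoidHom.div_apply] at this

/-- Parameters depend only on an invariant constituent below. -/
theorem par_iff (hS : IsPGroup p S) (hLK : L ≤ K) (hSK : S ⊓ K ≤ L) {ν : IrrCharacter L}
    {θ : IrrCharacter K} {e : ℕ} (he : resSub hLK (θ : K → ℂ) = (e : ℂ) • (ν : L → ℂ))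
    (hp : ¬ p ∣ deg θ) (μ : S →* ℂˣ) : Par θ μ ↔ Par ν μ := by
  have hdeg : deg θ = e * deg ν := by
    have := congrFun he 1
    rw [resSub_one, Pi.smul_apply, smul_eq_mul, deg_spec, deg_spec] at this
    exact_mod_cast this
  have hdet : ∀ (x : S) (hx : (x : G) ∈ L), DetHom.det (θ : K → ℂ) ⟨x, hLK hx⟩ =
      DetHom.det (ν : L → ℂ) ⟨x, hx⟩ ^ e := by
    intro x hx
    have h1 := DetHom.det_comp (Subgroup.inclusion hLK) (Chars.irr_isCharacter θ)
    rw [show (fun y : L => (θ : K → ℂ) (Subgroup.inclusion hLK y)) = resSub hLK (θ : K → ℂ) from rfl,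
      he, DetHom.det_natCast_smul (Chars.irr_isCharacter ν)] at h1
    exact (congrArg (fun f : L →* ℂˣ => f ⟨x, hx⟩) h1).symm
  constructor
  · intro h x hx
    have h1 := h x (hLK hx)
    rw [hdet x hx, hdeg, mul_comm, pow_mul, ← div_eq_one, ← div_pow] at h1
    have he' : ¬ p ∣ e := fun hd => hp (hdeg ▸ Dvd.dvd.mul_right hd _)
    obtain ⟨a, ha⟩ := hS x
    rw [← div_eq_one]
    refine orderOf_eq_one_iff.1 (Nat.eq_one_of_dvd_coprimes
      (Nat.Coprime.pow_left a ((Fact.out : p.Prime).coprime_iff_not_dvd.2 he'))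
      (orderOf_dvd_of_pow_eq_one ?_) (orderOf_dvd_of_pow_eq_one h1))
    have ha' : (⟨(x : G), hx⟩ : L) ^ p ^ a = 1 := Subtype.ext (by simpa using congrArg Subtype.val ha)
    rw [div_pow, ← pow_mul, mul_comm, pow_mul, ← map_pow μ x, ha, map_one, one_pow, ← map_pow, ha',
      map_one, div_one]
  · intro h x hx
    have hxL : (x : G) ∈ L := hSK ⟨x.2, hx⟩
    rw [hdet x hxL, hdeg, mul_comm, pow_mul, h x hxL]

/-- Gluing linear characters. -/
theorem exists_glue (hn : NormBy S K) (f : K →* ℂˣ) (u : S →* ℂˣ)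
    (hinv : ∀ s ∈ S, ∀ k k' : K, (k' : G) = s * k * s⁻¹ → f k' = f k)
    (hag : ∀ (x : S) (hx : (x : G) ∈ K), u x = f ⟨x, hx⟩) :
    ∃ F : (K ⊔ S : Subgroup G) →* ℂˣ, (∀ k : K, F (Subgroup.inclusion le_sup_left k) = f k) ∧
      ∀ x : S, F (Subgroup.inclusion le_sup_right x) = u x := by
  have hle : S ≤ Subgroup.normalizer (K : Set G) := fun s hs =>
    Subgroup.mem_normalizer_iff.2 (hn s hs)
  have hdec : ∀ m : (K ⊔ S : Subgroup G), ∃ (k : K) (s : S), (m : G) = k * s := by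
    intro m
    have hm := m.2
    rw [← SetLike.mem_coe, Subgroup.coe_mul_of_right_le_normalizer_left _ _ hle] at hm
    obtain ⟨k, hk, s, hs, e⟩ := hm
    exact ⟨⟨k, hk⟩, ⟨s, hs⟩, e.symm⟩
  choose a b hab using hdec
  have hwd : ∀ (k k' : K) (s s' : S), (k : G) * s = k' * s' → f k * u s = f k' * u s' := by
    intro k k' s s' e
    have hx : ((s * s'⁻¹ : S) : G) = (k⁻¹ * k' : K) := by
      simp only [Subgroup.coe_mul, Subgroup.coe_inv]
      rw [eq_inv_mul_iff_mul_eq, ← mul_assoc, e, mul_inv_cancel_right]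
    have h1 := hag (s * s'⁻¹) (hx ▸ (k⁻¹ * k').2)
    rw [show (⟨((s * s'⁻¹ : S) : G), _⟩ : K) = k⁻¹ * k' from Subtype.ext hx, map_mul, map_mul,
      map_inv, map_inv, mul_inv_eq_iff_eq_mul] at h1
    rw [h1, mul_assoc, mul_inv_cancel_left]
  refine ⟨MonoidHom.mk' (fun m => f (a m) * u (b m)) fun m m' => ?_, fun k => ?_, fun x => ?_⟩
  · let c : K := ⟨(b m : G) * a m' * (b m : G)⁻¹, hn.mem (b m).2 (a m').2⟩
    rw [hwd (a (m * m')) (a m * c) (b (m * m')) (b m * b m') (by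
      rw [← hab]
      simp only [Subgroup.coe_mul, c, hab m, hab m']
      group)]
    rw [map_mul, map_mul, hinv _ (b m).2 (a m') c rfl, mul_mul_mul_comm]
  · show f (a _) * u (b _) = f k
    rw [hwd (a _) k (b _) 1 (by rw [← hab]; simp), map_one, mul_one]
  · show f (a _) * u (b _) = u x
    rw [hwd (a _) 1 (b _) x (by rw [← hab]; simp), map_one, one_mul]

theorem relIndex_sup_pow (hS : IsPGroup p S) (hn : NormBy S K) :
    ∃ a, K.relIndex (K ⊔ S) = p ^ a := by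
  have hle : S ≤ Subgroup.normalizer (K : Set G) := fun s hs =>
    Subgroup.mem_normalizer_iff.2 (hn s hs)
  haveI := hn.normal
  haveI : NormBy (S ⊔ K) K := fun g hg => by
    have : S ⊔ K ≤ Glauberman.normGroup K :=
      sup_le hn fun x hx => Glauberman.normalises_of_mem fun y hy =>
        K.mul_mem (K.mul_mem hx hy) (K.inv_mem hx)
    exact this hg
  haveI := NormBy.normal ‹NormBy (S ⊔ K) K›
  obtain ⟨a, ha⟩ := hS.index (K.subgroupOf S)
  refine ⟨a, ?_⟩
  rw [← ha, sup_comm]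
  exact Nat.card_congr (QuotientGroup.quotientInfEquivProdNormalizerQuotient S K hle).toEquiv.symm

theorem normBy_sup (hn : NormBy S K) : NormBy (K ⊔ S) K := by
  intro g hg
  have : K ⊔ S ≤ Glauberman.normGroup K :=
    sup_le (fun x hx => Glauberman.normalises_of_mem fun y hy =>
      K.mul_mem (K.mul_mem hx hy) (K.inv_mem hx)) hn
  exact this hg

theorem sup_le_stab {θ : IrrCharacter K} (hinv : S ≤ stabGroup θ) : K ⊔ S ≤ stabGroup θ :=
  sup_le (le_stabGroup θ) hinv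

theorem normBy_of_stab {θ : IrrCharacter K} (hinv : S ≤ stabGroup θ) : NormBy S K :=
  fun _ hg => (hinv hg).1

theorem det_restrict {hKM : K ≤ M} {θ : IrrCharacter K} {χ : IrrCharacter M}
    (e : IsExt hKM θ χ) (k : K) :
    DetHom.det (χ : M → ℂ) (Subgroup.inclusion hKM k) = DetHom.det (θ : K → ℂ) k := by
  have h1 := DetHom.det_comp (Subgroup.inclusion hKM) (Chars.irr_isCharacter χ)
  rw [show (fun y : K => (χ : M → ℂ) (Subgroup.inclusion hKM y)) = (θ : K → ℂ) from e] at h1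
  rw [h1]; rfl

theorem detChar_eq {H : Type*} [Group H] [Finite H] {χ : H → ℂ} (hχ : IsIrrCharacter H χ) (x : H) :
    Cfsg.detChar χ x = (DetHom.det χ x : ℂ) := by
  obtain ⟨n, ρ, hρ, rfl⟩ := hχ
  haveI := hρ
  rw [Clifford.detChar_character ρ ⟨n, ρ, rfl⟩, DetHom.det_eq]

/-- An extension with given parameter. -/
theorem exists_ext_param (hS : IsPGroup p S) {θ : IrrCharacter K} (hinv : S ≤ stabGroup θ)
    (hp : ¬ p ∣ deg θ) {μ : S →* ℂˣ} (hμ : Par θ μ) :
    ∃ χ : IrrCharacter (K ⊔ S : Subgroup G), IsExt le_sup_left θ χ ∧ HasParam le_sup_right θ χ μ := by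
  have hn := normBy_of_stab hinv
  have hfinv : ∀ s ∈ S, ∀ k k' : K, (k' : G) = s * k * s⁻¹ →
      DetHom.det (θ : K → ℂ) k' = DetHom.det (θ : K → ℂ) k := by
    intro s hs k k' e
    let c : K →* K := (Glauberman.conjEquiv (hn s hs)).toMonoidHom
    have h1 := DetHom.det_comp c (Chars.irr_isCharacter θ)
    rw [show (fun y : K => (θ : K → ℂ) (c y)) = (θ : K → ℂ) from
      funext fun y => (hinv hs).2 y _ rfl] at h1
    rw [show k' = c k from Subtype.ext e]
    exact (congrArg (fun f : K →* ℂˣ => f k) h1).symm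
  obtain ⟨F, hFK, hFS⟩ := exists_glue hn (DetHom.det (θ : K → ℂ)) (μ ^ deg θ) hfinv
    fun x hx => by rw [MonoidHom.pow_apply]; exact hμ x hx
  haveI := (normBy_sup hn).normal
  obtain ⟨a, ha⟩ := relIndex_sup_pow hS hn
  have hcop : Nat.Coprime (K.subgroupOf (K ⊔ S)).index (deg θ) := by
    show Nat.Coprime (K.relIndex (K ⊔ S)) _
    rw [ha]
    exact Nat.Coprime.pow_left a ((Fact.out : p.Prime).coprime_iff_not_dvd.2 hp)
  obtain ⟨χ, hχ, hres, hdet⟩ := Clifford.exists_char_extension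
    (Glauberman.isIrr_pullSub (le_sup_left : K ≤ K ⊔ S) θ)
    (fun g x => (sup_le_stab hinv g.2).2 _ _ rfl) (d := deg θ) (deg_spec θ) hcop F fun x => by
      rw [detChar_eq (Glauberman.isIrr_pullSub _ θ)]
      have h1 := DetHom.det_comp (Subgroup.subgroupOfEquivOfLe (le_sup_left : K ≤ K ⊔ S)).toMonoidHom
        (Chars.irr_isCharacter θ)
      rw [show Glauberman.pullSub (le_sup_left : K ≤ K ⊔ S) (θ : K → ℂ) = fun y =>
        (θ : K → ℂ) ((Subgroup.subgroupOfEquivOfLe (le_sup_left : K ≤ K ⊔ S)).toMonoidHom y) from rfl,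
        h1]
      exact congrArg Units.val (hFK ⟨_, x.2⟩)
  refine ⟨⟨χ, hχ⟩, funext fun k => hres ⟨⟨k, Subgroup.mem_sup_left k.2⟩, k.2⟩, fun x => ?_⟩
  apply Units.ext
  rw [← detChar_eq hχ, hdet]
  exact congrArg Units.val ((hFS x).trans (MonoidHom.pow_apply _ _ _))

/-- Uniqueness of the extension with given parameter. -/
theorem ext_param_unique (hS : IsPGroup p S) {θ : IrrCharacter K} (hinv : S ≤ stabGroup θ)
    (hp : ¬ p ∣ deg θ) {μ : S →* ℂˣ} {χ χ' : IrrCharacter (K ⊔ S : Subgroup G)}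
    (e : IsExt le_sup_left θ χ) (hχ : HasParam le_sup_right θ χ μ)
    (e' : IsExt le_sup_left θ χ') (hχ' : HasParam le_sup_right θ χ' μ) : χ' = χ := by
  have hn := normBy_of_stab hinv
  haveI := (normBy_sup hn).normal
  obtain ⟨a, ha⟩ := relIndex_sup_pow hS hn
  have hcop : Nat.Coprime (K.subgroupOf (K ⊔ S)).index (deg θ) := by
    show Nat.Coprime (K.relIndex (K ⊔ S)) _
    rw [ha]
    exact Nat.Coprime.pow_left a ((Fact.out : p.Prime).coprime_iff_not_dvd.2 hp)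
  refine Subtype.ext (Clifford.char_extension_unique
    (Glauberman.isIrr_pullSub (le_sup_left : K ≤ K ⊔ S) θ) (d := deg θ) (deg_spec θ) hcop χ.2 χ'.2
    (fun x => congrFun e ⟨_, x.2⟩) (fun x => congrFun e' ⟨_, x.2⟩) ?_)
  have heq : DetHom.det (χ' : (K ⊔ S : Subgroup G) → ℂ) = DetHom.det (χ : (K ⊔ S : Subgroup G) → ℂ) := by
    refine MonoidHom.ext fun m => ?_
    let E := MonoidHom.eqLocus (DetHom.det (χ' : (K ⊔ S : Subgroup G) → ℂ))
      (DetHom.det (χ : (K ⊔ S : Subgroup G) → ℂ))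
    have hle : K ⊔ S ≤ E.map (K ⊔ S).subtype := by
      refine sup_le (fun k hk => ⟨⟨k, Subgroup.mem_sup_left hk⟩, ?_, rfl⟩)
        (fun x hx => ⟨⟨x, Subgroup.mem_sup_right hx⟩, ?_, rfl⟩)
      · exact (det_restrict e' ⟨k, hk⟩).trans (det_restrict e ⟨k, hk⟩).symm
      · exact (hχ' ⟨x, hx⟩).trans (hχ ⟨x, hx⟩).symm
    obtain ⟨y, hy, hym⟩ := hle m.2
    rw [← Subtype.ext hym]
    exact hy
  funext m
  rw [detChar_eq χ'.2, detChar_eq χ.2, heq]

/-- Every extension has a parameter. -/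
theorem exists_param (hS : IsPGroup p S) {θ : IrrCharacter K}
    (hp : ¬ p ∣ deg θ) (hKM : K ≤ M) (hSM : S ≤ M) {χ : IrrCharacter M}
    (e : IsExt hKM θ χ) : ∃ μ : S →* ℂˣ, Par θ μ ∧ HasParam hSM θ χ μ := by
  set f : S →* ℂˣ := (DetHom.det (χ : M → ℂ)).comp (Subgroup.inclusion hSM) with hf
  obtain ⟨n, hn⟩ := IsPGroup.iff_card.1 hS
  have hpow : f ^ p ^ n = 1 := by
    ext x
    rw [MonoidHom.pow_apply, ← map_pow, ← hn, pow_card_eq_one', map_one, MonoidHom.one_apply]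
  have hcop : Nat.Coprime (deg θ) (orderOf f) :=
    Nat.Coprime.coprime_dvd_right (orderOf_dvd_of_pow_eq_one hpow)
      (Nat.Coprime.pow_right n ((Fact.out : p.Prime).coprime_iff_not_dvd.2 hp).symm)
  obtain ⟨m, hm⟩ := exists_pow_eq_self_of_coprime hcop
  have hfx : ∀ x, (f ^ m) x ^ deg θ = f x := fun x => by
    rw [← MonoidHom.pow_apply, ← pow_mul, mul_comm, pow_mul, hm]
  refine ⟨f ^ m, fun x hx => ?_, fun x => (hfx x).symm⟩
  rw [hfx]
  exact det_restrict e ⟨x, hx⟩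

theorem param_unique (hS : IsPGroup p S) {θ : IrrCharacter K} (hp : ¬ p ∣ deg θ) {hSM : S ≤ M}
    {χ : IrrCharacter M} {μ μ' : S →* ℂˣ} (h : HasParam hSM θ χ μ) (h' : HasParam hSM θ χ μ') :
    μ = μ' := eq_of_pow_eq hS hp fun x => (h x).symm.trans (h' x)

/-- Invariance of the extension and of its parameter. -/
theorem fixes_ext_iff (hS : IsPGroup p S) {θ : IrrCharacter K} (hinv : S ≤ stabGroup θ)
    (hp : ¬ p ∣ deg θ) {μ : S →* ℂˣ} {χ : IrrCharacter (K ⊔ S : Subgroup G)}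
    (e : IsExt le_sup_left θ χ) (hχ : HasParam le_sup_right θ χ μ) {g : G} (hg : Fixes g θ)
    (hgS : Normalises g S) : Fixes g χ ↔ MuInv g μ := by
  have hgM : Normalises g (K ⊔ S) := by
    refine Glauberman.normalises_of_mem fun x hx => ?_
    have hle : K ⊔ S ≤ (K ⊔ S).comap (MulAut.conj g).toMonoidHom :=
      sup_le (fun k hk => Subgroup.mem_sup_left ((hg.1 k).1 hk))
        (fun s hs => Subgroup.mem_sup_right ((hgS s).1 hs))
    exact hle hx
  obtain ⟨χ', hχ'⟩ := exists_conj hgM χ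
  let c : (K ⊔ S : Subgroup G) →* (K ⊔ S : Subgroup G) := (Glauberman.conjEquiv hgM).toMonoidHom
  have hdet : ∀ y, DetHom.det (χ' : (K ⊔ S : Subgroup G) → ℂ) (c y) =
      DetHom.det (χ : (K ⊔ S : Subgroup G) → ℂ) y := by
    intro y
    have h1 := DetHom.det_comp c (Chars.irr_isCharacter χ')
    rw [show (fun y => (χ' : (K ⊔ S : Subgroup G) → ℂ) (c y)) = (χ : (K ⊔ S : Subgroup G) → ℂ) from
      funext fun y => hχ' y _ rfl] at h1
    rw [h1]; rfl
  have e' : IsExt le_sup_left θ χ' := by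
    funext k
    obtain ⟨k0, rfl⟩ := (Glauberman.conjEquiv hg.1).surjective k
    exact (hχ' ⟨k0, Subgroup.mem_sup_left k0.2⟩ _ rfl).trans
      ((congrFun e k0).trans (hg.2 k0 _ rfl).symm)
  have hfix : Fixes g χ ↔ χ' = χ := ⟨fun h => Subtype.ext (IsConjBy.eq hgM hχ' h.2),
    fun h => ⟨hgM, h ▸ hχ'⟩⟩
  rw [hfix]
  constructor
  · intro h x x' hx
    have key : ∀ x x' : S, (x' : G) = g * x * g⁻¹ → μ x' ^ deg θ = μ x ^ deg θ := by
      intro x x' hx
      rw [← hχ, ← hχ, ← hdet (Subgroup.inclusion le_sup_right x), h]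
      exact congrArg _ (Subtype.ext hx)
    let c' : S →* S := (Glauberman.conjEquiv hgS).toMonoidHom
    have := eq_of_pow_eq hS hp (μ := μ.comp c') (μ' := μ) fun y => key y _ rfl
    rw [show x' = c' x from Subtype.ext hx]
    exact congrArg (fun f : S →* ℂˣ => f x) this
  · intro h
    refine ext_param_unique hS hinv hp e hχ e' fun x => ?_
    obtain ⟨x0, rfl⟩ := (Glauberman.conjEquiv hgS).surjective x
    rw [h x0 _ rfl, ← hχ x0, ← hdet]
    rfl

/-- Multiplicities modulo `p` factor through a correspondent. -/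
theorem mu_eq_mul {C : Subgroup G} {h : C ≤ M} {h' : M ≤ K} (hS : IsPGroup p S)
    (hSK : NormBy S K) (hSM : NormBy S M) (hSC : NormBy S C) {χ : SylowCorr.InvIrr S K}
    {ξ : SylowCorr.InvIrr S C} (η₀ : SylowCorr.InvIrr S M)
    (hz : ∀ η : SylowCorr.InvIrr S M, η ≠ η₀ →
      SylowCorr.μ p h' χ.1 η.1 * SylowCorr.μ p h η.1 ξ.1 = 0) :
    SylowCorr.μ p (h.trans h') χ.1 ξ.1 =
      SylowCorr.μ p h' χ.1 η₀.1 * SylowCorr.μ p h η₀.1 ξ.1 := by
  classical
  have e0 : SylowCorr.μ p (h.trans h') χ.1 ξ.1 =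
      ∑ η : IrrCharacter M, SylowCorr.μ p h' χ.1 η * SylowCorr.μ p h η ξ.1 := by
    unfold SylowCorr.μ
    rw [Glauberman.charMult_trans h' h (Chars.irr_isCharacter χ.1) ξ.1]
    push_cast
    rfl
  rw [e0, SylowCorr.sum_eq_sum_inv hS hSM _ fun x hx η η' e => by
    rw [SylowCorr.μ_conj (hSK x hx) (hSM x hx) h' (χ.2 x hx) e,
      SylowCorr.μ_conj (hSM x hx) (hSC x hx) h e (ξ.2 x hx)]]
  exact SylowCorr.sum_inv_eq_single _ η₀ hz

theorem mu_ext {h : K ≤ M} {θ : IrrCharacter K} {χ : IrrCharacter M} (e : IsExt h θ χ) :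
    SylowCorr.μ p h χ θ = 1 := by
  classical
  rw [SylowCorr.μ, e, Glauberman.charMult_irr, if_pos rfl, Nat.cast_one]

theorem mu_ext_ne {h : K ≤ M} {θ θ' : IrrCharacter K} {χ : IrrCharacter M} (e : IsExt h θ χ)
    (hne : θ' ≠ θ) : SylowCorr.μ p h χ θ' = 0 := by
  classical
  rw [SylowCorr.μ, e, Glauberman.charMult_irr, if_neg hne.symm, Nat.cast_zero]

theorem over_of_mu {h : K ≤ M} {θ : IrrCharacter K} {χ : IrrCharacter M}
    (hm : SylowCorr.μ p h χ θ ≠ 0) : Over h θ χ := fun e => hm (by rw [SylowCorr.μ, e, Nat.cast_zero])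

/-- The correspondence, packaged. -/
theorem exists_cor' {Q C : Subgroup G} (hQn : NormBy K Q) (hQp : ¬ p ∣ Q.relIndex K)
    (hS : IsPGroup p S) (hSK : NormBy S K) (hSQ : NormBy S Q) (hCK : C ≤ K)
    (hC : ∀ k, k ∈ C ↔ k ∈ K ∧ ∀ x ∈ S, x * k * x⁻¹ * k⁻¹ ∈ Q) :
    ∃ f : SylowCorr.InvIrr S K → SylowCorr.InvIrr S C, SylowCorr.IsCor p S hCK f := by
  haveI := hQn.normal
  exact SylowCorr.exists_cor hQp (fun k hk q hq => hQn.mem hk hq)
    (fun k hk => Subgroup.mem_subgroupOf.1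
      (Subgroup.pow_index_mem (Q.subgroupOf K) (⟨k, hk⟩ : K))) _ S rfl hS hSK hSQ C hCK hC

theorem eq_of_mu_ne {C : Subgroup G} {h : C ≤ K}
    {f : SylowCorr.InvIrr S K → SylowCorr.InvIrr S C} (hf : SylowCorr.IsCor p S h f)
    {χ : SylowCorr.InvIrr S K} {ξ : SylowCorr.InvIrr S C}
    (hne : SylowCorr.μ p h χ.1 ξ.1 ≠ 0) : ξ = f χ := by
  by_contra h'
  exact hne ((hf.2 χ).2 ξ h')

theorem cor_mu_ne {C : Subgroup G} {h : C ≤ K}
    {f : SylowCorr.InvIrr S K → SylowCorr.InvIrr S C} (hf : SylowCorr.IsCor p S h f)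
    (χ : SylowCorr.InvIrr S K) : SylowCorr.μ p h χ.1 (f χ).1 ≠ 0 := by
  rcases (hf.2 χ).1 with e | e <;> rw [e]
  · exact one_ne_zero
  · exact neg_ne_zero.2 one_ne_zero

end Cfsg.Agent.Lib.RelMcKay
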